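import Cfsg.Agent.Lib.SuzFive11.Lines

/-!
# Suzuki type: the two classes of subgroups of order five and the normaliser of a Sylow subgroup

Owner: helper11.
-/

set_option autoImplicit false

namespace Cfsg.Agent.Lib.SuzFive11

open Cfsg.Agent.Lib.Involutions.Basic

variable {G : Type*} [Group G] [Finite G] {z : G}

theorem dmat_y : ∀ q : ZMod 5, q = 3 → comp (dmat 2 q) ymat = dmat 2 2 := by decide +kernel

theorem sm_swap : ∀ s m : ZMod 5, ((0, 1) : V5) = sm s (m, 1) → m = 0 := by decide +kernel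

omit [Finite G] in
theorem Base.acts_cancel {f a y : G} (b : Base z f a y) {n n' : G} {M : M5} (hn : Acts f a n M)
    (hn' : Acts f a n' M) : n⁻¹ * n' ∈ plane f a := by
  refine b.acts_one5.1 ⟨?_, ?_⟩
  · show n⁻¹ * n' * f * (n⁻¹ * n')⁻¹ = el f a (1, 0)
    rw [b.el_fst, show n⁻¹ * n' * f * (n⁻¹ * n')⁻¹ = n⁻¹ * (n' * f * n'⁻¹) * n by group, hn'.1, ← hn.1]
    group
  · show n⁻¹ * n' * a * (n⁻¹ * n')⁻¹ = el f a (0, 1)
    rw [b.el_snd, show n⁻¹ * n' * a * (n⁻¹ * n')⁻¹ = n⁻¹ * (n' * a * n'⁻¹) * n by group, hn'.2, ← hn.2]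
    group

theorem scalar_cr : ∀ k : ZMod 5, ∀ v : V5, cr (ap (dmat k k) v) v = 0 := by decide +kernel

theorem snd_form : ∀ M : M5, cr M.2 (0, 1) = 0 → M = (M.1, (0, M.2.2)) := by decide +kernel

theorem scalar_ne_zero : ∀ k : ZMod 5, ap (dmat k k) (0, 1) ≠ 0 → k ≠ 0 := by decide +kernel

theorem ap_snd : ∀ M : M5, ap M (0, 1) = M.2 := by decide +kernel

theorem scalar_pow : comp (dmat (2 : ZMod 5) 2) (dmat 2 2) = dmat 4 4 ∧
    comp (dmat (4 : ZMod 5) 4) (dmat 4 4) = one5 ∧ dmat (4 : ZMod 5) 4 ≠ one5 := by decide +kernel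

namespace Full

variable {f a y g t : G} {q : ZMod 5} (e : Full z f a y g t q) (h : Data z)
include e h

/-- The scalar, the reflection exchanging two lines of the second type, and those lines. -/
theorem gens : ∃ m s r, m ≠ 0 ∧
    (∀ o, WT z (el f a (rep o)) ↔ o = some 0 ∨ o = some m ∨ o = some (-m)) ∧
    Acts f a s (dmat 2 2) ∧ orderOf r = 2 ∧ Acts f a r (rmat m) := by
  have b := e.toBase
  have hY := b.y_acts h
  obtain ⟨m, hm, hW⟩ := e.wset h
  have hWm : WT z (el f a (rep (some m))) := (hW _).2 (Or.inr (Or.inl rfl))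
  have hW0 : WT z (el f a (rep (some 0))) := (hW _).2 (Or.inl rfl)
  obtain ⟨o, s, hs, ho⟩ := rep_cover (ap (dmat 2 q) (rep (some m))) (b.ap_ne_zero e.gacts (rep_ne_zero _))
  obtain ⟨i, rfl⟩ : ∃ i : Fin 3, o = some (![0, m, -m] i) := by
    rcases (hW o).1 (b.wt_move e.gacts hs ho hWm) with rfl | rfl | rfl
    · exact ⟨0, rfl⟩
    · exact ⟨1, rfl⟩
    · exact ⟨2, rfl⟩
  obtain ⟨σ, hσ⟩ : ∃ σ, Acts f a σ (dmat 2 2) := by
    rcases delta_two q m s i hm e.hq ho with rfl | rfl
    · exact ⟨g, e.gacts⟩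
    · exact ⟨g * y, dmat_y 3 rfl ▸ b.acts_mul e.gacts hY⟩
  obtain ⟨r, M, k, hr2, hr, hfix, hk⟩ := b.exists_refl h hm (Or.inr hWm)
  obtain ⟨o', s', hs', hso⟩ := rep_cover (ap M (rep (some 0))) (b.ap_ne_zero hr (rep_ne_zero _))
  rcases (hW o').1 (b.wt_move hr hs' hso hW0) with rfl | rfl | rfl
  · exfalso
    obtain ⟨h5, hne⟩ := (refl_axes M m k hm hfix hk).1 (by
      show (ap M (rep (some 0))).1 = 0
      rw [hso]; exact (sm_fst_zero s').1)
    exact hne (b.acts_unique (b.acts_mul hY hr) (b.acts_one5.2 (e.no_unip h (b.acts_mul hY hr) h5)))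
  · exfalso
    refine hm (sm_swap s' m (b.el_inj ((MulAut.conj r).injective ?_)))
    show r * el f a (0, 1) * r⁻¹ = r * el f a (sm s' (m, 1)) * r⁻¹
    rw [b.apply hr, b.el_sm, ← conj_pow, b.apply hr, hfix, ← b.el_sm]
    exact congrArg (el f a) hso
  · refine ⟨m, σ, r, hm, hW, hσ, hr2, ?_⟩
    rwa [← refl_mat M m k hm hfix hk (by
      show cr (ap M (rep (some 0))) (-m, 1) = 0
      rw [hso]; exact cr_sm s' (-m, 1))]

/-- Exactly two classes of subgroups of order five. -/
theorem two_classes : ∃ A B : Subgroup G, Nat.card A = 5 ∧ Nat.card B = 5 ∧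
    (∀ g' : G, A.map (MulAut.conj g').toMonoidHom ≠ B) ∧
    ∀ C : Subgroup G, Nat.card C = 5 →
      ∃ g' : G, C.map (MulAut.conj g').toMonoidHom = A ∨ C.map (MulAut.conj g').toMonoidHom = B := by
  have b := e.toBase
  have hY := b.y_acts h
  obtain ⟨m, σ, r, hm, hW, -, -, hr⟩ := e.gens h
  refine ⟨line f a none, line f a (some 0), b.line_card _, b.line_card _, fun g' hg' => ?_, fun C hC => ?_⟩
  · refine h.disj (c := el f a (rep (some 0))) ?_ ((hW _).2 (Or.inl rfl))
    refine ((show RT z (el f a (rep none)) from ?_).conj g').of_gen ?_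
    · show RT z (el f a (1, 0))
      rw [b.el_fst]; exact b.rf
    · rw [line, MonoidHom.map_zpowers] at hg'
      exact hg'
  · obtain ⟨g', o, ho⟩ := e.conj_line h hC
    obtain ⟨⟨s1, hs1, e1⟩, ⟨s2, hs2, e2⟩⟩ := rmat_lines m hm
    have hback : ∀ o₀ n, (line f a o₀).map (MulAut.conj n).toMonoidHom = line f a o →
        C.map (MulAut.conj (n⁻¹ * g')).toMonoidHom = line f a o₀ := by
      intro o₀ n hn
      have key : ∀ (u w : G) (K : Subgroup G), (K.map (MulAut.conj w).toMonoidHom).map (MulAut.conj u).toMonoidHom =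
          K.map (MulAut.conj (u * w)).toMonoidHom := fun u w K => by
        rw [Subgroup.map_map]
        congr 1
        ext v
        show u * (w * v * w⁻¹) * u⁻¹ = u * w * v * (u * w)⁻¹
        group
      rw [← key, ho, ← hn, key, inv_mul_cancel, map_one]
      ext v
      simp
    have hr1 := b.map_line hr hs1 e1
    have hr2 := b.map_line hr hs2 e2
    have hy : ∀ i o₀ n, (line f a o₀).map (MulAut.conj n).toMonoidHom = line f a (some i) →
        (line f a o₀).map (MulAut.conj (y * n)).toMonoidHom = line f a (some (-i)) := by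
      intro i o₀ n hn
      obtain ⟨s, hs, he⟩ := y_rep i
      rw [← b.map_line hY hs he, ← hn, Subgroup.map_map]
      congr 1
      ext v
      show y * n * v * (y * n)⁻¹ = y * (n * v * n⁻¹) * y⁻¹
      group
    have hid : ∀ o₀, (line f a o₀).map (MulAut.conj (1 : G)).toMonoidHom = line f a o₀ := fun o₀ => by
      ext v; simp
    rcases six_lines m hm o with rfl | rfl | rfl | rfl | rfl | rfl
    · exact ⟨_, Or.inl (hback none 1 (hid _))⟩
    · exact ⟨_, Or.inr (hback (some 0) 1 (hid _))⟩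
    · exact ⟨_, Or.inr (hback (some 0) (y * r) (by rw [hy (-m) _ _ hr2, neg_neg]))⟩
    · exact ⟨_, Or.inr (hback (some 0) r hr2)⟩
    · exact ⟨_, Or.inl (hback none r hr1)⟩
    · exact ⟨_, Or.inl (hback none (y * r) (hy (2 * m) _ _ hr1))⟩

set_option maxHeartbeats 1600000 in
/-- The normaliser of the plane. -/
theorem normalizer_data : Nat.card ↥(Subgroup.normalizer ((plane f a : Subgroup G) : Set G)) = 600 ∧
    Nonempty (↥(Subgroup.normalizer ((plane f a : Subgroup G) : Set G)) ⧸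
      (plane f a).subgroupOf (Subgroup.normalizer ((plane f a : Subgroup G) : Set G)) ≃*
        Multiplicative (ZMod 4) × Equiv.Perm (Fin 3)) := by
  classical
  have b := e.toBase
  obtain ⟨m, σ, r, hm, hW, hσ, hr2, hr⟩ := e.gens h
  set P := plane f a with hP
  set N := Subgroup.normalizer ((P : Subgroup G) : Set G) with hN
  have hPN : P ≤ N := Subgroup.le_normalizer
  have hnorm : (P.subgroupOf N).Normal := Subgroup.normal_in_normalizer
  have hmemN : ∀ {n : G} {M : M5}, Acts f a n M → n ∈ N := fun hn => (b.mem_normalizer h).2 ⟨_, hn⟩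
  -- the three lines
  let WL := {L : Subgroup G // ∃ o, WT z (el f a (rep o)) ∧ L = line f a o}
  have hstab : ∀ n ∈ N, ∀ L : WL, ∃ o, WT z (el f a (rep o)) ∧
      L.1.map (MulAut.conj n).toMonoidHom = line f a o := by
    rintro n hn ⟨_, o, ho, rfl⟩
    obtain ⟨M, hM⟩ := (b.mem_normalizer h).1 hn
    obtain ⟨o', s, hs, he⟩ := rep_cover (ap M (rep o)) (b.ap_ne_zero hM (rep_ne_zero _))
    exact ⟨o', b.wt_move hM hs he ho, b.map_line hM hs he⟩
  letI : MulAction N WL :=
    { smul := fun n L => ⟨L.1.map (MulAut.conj (n : G)).toMonoidHom, hstab n n.2 L⟩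
      one_smul := fun L => Subtype.ext (by
        show L.1.map (MulAut.conj (1 : G)).toMonoidHom = L.1
        ext v; simp)
      mul_smul := fun n n' L => Subtype.ext (by
        show L.1.map (MulAut.conj ((n : G) * n')).toMonoidHom =
          (L.1.map (MulAut.conj (n' : G)).toMonoidHom).map (MulAut.conj (n : G)).toMonoidHom
        rw [Subgroup.map_map]
        congr 1
        ext v
        show (n : G) * n' * v * ((n : G) * n')⁻¹ = n * ((n' : G) * v * (n' : G)⁻¹) * (n : G)⁻¹
        group) }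
  -- numbering of the three lines
  let φ : Fin 3 → WL := fun i => ⟨line f a (some (![0, m, -m] i)), some (![0, m, -m] i), (hW _).2 (by
    fin_cases i
    · exact Or.inl rfl
    · exact Or.inr (Or.inl rfl)
    · exact Or.inr (Or.inr rfl)), rfl⟩
  have hφ : Function.Bijective φ := by
    constructor
    · intro i j he
      have h' := Option.some.inj (b.line_inj (congrArg Subtype.val he))
      have : ∀ m : ZMod 5, m ≠ 0 → ∀ i j : Fin 3, ![0, m, -m] i = ![0, m, -m] j → i = j := by decide +kernel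
      exact this m hm i j h'
    · rintro ⟨_, o, ho, rfl⟩
      rcases (hW o).1 ho with rfl | rfl | rfl
      · exact ⟨0, rfl⟩
      · exact ⟨1, rfl⟩
      · exact ⟨2, rfl⟩
  let ψ₀ : N →* Equiv.Perm (Fin 3) :=
    (Equiv.ofBijective φ hφ).symm.permCongrHom.toMonoidHom.comp (MulAction.toPermHom N WL)
  have hψ₀ : ∀ n : N, ψ₀ n = 1 ↔ ∀ o, WT z (el f a (rep o)) →
      (line f a o).map (MulAut.conj (n : G)).toMonoidHom = line f a o := by
    intro n
    show (Equiv.ofBijective φ hφ).symm.permCongrHom (MulAction.toPermHom N WL n) = 1 ↔ _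
    rw [MulEquiv.map_eq_one_iff]
    constructor
    · intro he o ho
      exact congrArg Subtype.val (Equiv.congr_fun he ⟨line f a o, o, ho, rfl⟩)
    · intro he
      refine Equiv.ext fun L => Subtype.ext ?_
      obtain ⟨o, ho, rfl⟩ : ∃ o, ∃ ho, L = ⟨line f a o, o, ho, rfl⟩ := by
        obtain ⟨_, o, ho, rfl⟩ := L
        exact ⟨o, ho, rfl⟩
      exact he o ho
  have hfix_cr : ∀ {n : G} {M : M5}, Acts f a n M → ∀ i : ZMod 5,
      (line f a (some i)).map (MulAut.conj n).toMonoidHom = line f a (some i) → cr (ap M (i, 1)) (i, 1) = 0 := by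
    intro n M hM i he
    obtain ⟨k, hk⟩ := b.mem_line (o := some i) (v := ap M (rep (some i))) (by
      rw [← b.apply hM]
      exact he ▸ ⟨_, Subgroup.mem_zpowers _, rfl⟩)
    show cr (ap M (rep (some i))) (i, 1) = 0
    rw [hk]
    exact cr_sm k (i, 1)
  have hcr_fix : ∀ {n : G} {M : M5}, Acts f a n M → ∀ i : ZMod 5, cr (ap M (i, 1)) (i, 1) = 0 →
      (line f a (some i)).map (MulAut.conj n).toMonoidHom = line f a (some i) := by
    intro n M hM i he
    refine b.map_line hM (fun h0 => ?_) (cr_line _ i he)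
    refine b.ap_ne_zero hM (rep_ne_zero (some i)) ?_
    show ap M (i, 1) = 0
    have h0' : (ap M (i, 1)).2 = 0 := h0
    rw [cr_line _ i he, h0']
    simp [sm]
  -- the quotient
  let π := QuotientGroup.mk' (P.subgroupOf N)
  have hπ : ∀ {n : N}, π n = 1 ↔ Acts f a (n : G) one5 := fun {n} => by
    rw [QuotientGroup.mk'_apply, QuotientGroup.eq_one_iff, Subgroup.mem_subgroupOf, b.acts_one5]
  have hker : P.subgroupOf N ≤ ψ₀.ker := fun n hn => by
    rw [MonoidHom.mem_ker, hψ₀]
    intro o _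
    refine b.map_line (M := one5) (s := 1) (b.acts_one5.2 hn) (by decide) ?_
    simp [ap, one5, sm]
  let ψ := QuotientGroup.lift (P.subgroupOf N) ψ₀ hker
  set S : N := ⟨σ, hmemN hσ⟩ with hS
  set U : N := ⟨y, hmemN (b.y_acts h)⟩ with hU
  set R : N := ⟨r, hmemN hr⟩ with hR
  have hact : ∀ n : N, ∃ M, Acts f a (n : G) M := fun n => (b.mem_normalizer h).1 n.2
  -- the scalar has order four modulo the plane and is central
  obtain ⟨h44, h41, h4ne⟩ := scalar_pow
  have hS2 : Acts f a ((S ^ 2 : N) : G) (dmat 4 4) := by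
    rw [SubgroupClass.coe_pow, pow_two, ← h44]
    exact b.acts_mul hσ hσ
  have hord : orderOf (π S) = 4 := by
    have : Fact (Nat.Prime 2) := ⟨Nat.prime_two⟩
    refine orderOf_eq_prime_pow (p := 2) (n := 1) (fun he => ?_) ?_
    · rw [pow_one, ← map_pow, hπ] at he
      exact h4ne (b.acts_unique hS2 he)
    · rw [← map_pow, hπ, show (2 : ℕ) ^ (1 + 1) = 2 * 2 by rfl, pow_mul, SubgroupClass.coe_pow, pow_two, ← h41]
      exact b.acts_mul hS2 hS2
  have hcen : ∀ w, Commute (π S) w := by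
    intro w
    obtain ⟨n, rfl⟩ := QuotientGroup.mk'_surjective _ w
    obtain ⟨M, hM⟩ := hact n
    show π S * π n = π n * π S
    rw [← map_mul, ← map_mul]
    refine inv_mul_eq_one.1 ?_
    rw [← map_inv, ← map_mul, hπ, b.acts_one5, Subgroup.coe_mul, Subgroup.coe_inv]
    have e2 := b.acts_mul hM hσ
    rw [dmat_comm] at e2
    exact b.acts_cancel (b.acts_mul hσ hM) e2
  have hspow : ∀ l : ℕ, Acts f a ((S ^ l : N) : G) (dmat ((2 : ZMod 5) ^ l) ((2 : ZMod 5) ^ l)) := by
    intro l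
    induction l with
    | zero => rw [pow_zero, OneMemClass.coe_one, pow_zero]; exact b.acts_one
    | succ l ih =>
      rw [pow_succ, Subgroup.coe_mul, pow_succ, ← dmat_mul]
      exact b.acts_mul ih hσ
  have hkerψ : ψ.ker = Subgroup.zpowers (π S) := by
    refine le_antisymm (fun w hw => ?_) (Subgroup.zpowers_le.2 ?_)
    · obtain ⟨n, rfl⟩ := QuotientGroup.mk'_surjective _ w
      have hn := (hψ₀ n).1 hw
      obtain ⟨M, hM⟩ := hact n
      have c0 := hfix_cr hM 0 (hn _ ((hW _).2 (Or.inl rfl)))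
      have c1 := hfix_cr hM m (hn _ ((hW _).2 (Or.inr (Or.inl rfl))))
      have c2 := hfix_cr hM (-m) (hn _ ((hW _).2 (Or.inr (Or.inr rfl))))
      rw [ap_snd] at c0
      obtain ⟨A, B1, B2⟩ := M
      obtain rfl : B1 = 0 := congrArg (fun M : M5 => M.2.1) (snd_form _ c0)
      obtain ⟨l, hl⟩ := two_pow_cover B2 (fun h0 => b.ap_ne_zero hM (show ((0 : ZMod 5), (1 : ZMod 5)) ≠ 0 by decide)
        (by rw [ap_snd, h0]; rfl))
      have hMs := scalar_of_three A B2 m hm c1 c2
      rw [hMs, hl] at hM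
      refine Subgroup.mem_zpowers_iff.2 ⟨(l.val : ℤ), ?_⟩
      rw [zpow_natCast, ← map_pow, ← inv_mul_eq_one, ← map_inv, ← map_mul, hπ, b.acts_one5]
      exact b.acts_cancel (hspow l.val) hM
    · rw [MonoidHom.mem_ker]
      show ψ₀ S = 1
      rw [hψ₀]
      intro o ho
      obtain ⟨i, rfl⟩ : ∃ i, o = some i := by
        rcases (hW o).1 ho with rfl | rfl | rfl <;> exact ⟨_, rfl⟩
      exact hcr_fix hσ i (scalar_cr 2 (i, 1))
  have hu : π U * π U = 1 := by
    rw [← map_mul, show U * U = 1 from Subtype.ext (invol_mul_self b.hy), map_one]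
  have hv : π R * π R = 1 := by
    rw [← map_mul, show R * R = 1 from Subtype.ext (invol_mul_self hr2), map_one]
  have hψu : ψ (π U) ≠ 1 := fun he => by
    have := hfix_cr (b.y_acts h) m ((hψ₀ U).1 he _ ((hW _).2 (Or.inr (Or.inl rfl))))
    have hd : ∀ m : ZMod 5, cr (ap ymat (m, 1)) (m, 1) = 0 → m = 0 := by decide +kernel
    exact hm (hd m this)
  obtain ⟨hne, h3⟩ := rmat_y m hm
  have hUR := b.acts_mul (b.y_acts h) hr
  have huv : ψ (π U * π R) ^ 3 = 1 := by
    rw [← map_pow, ← map_mul, ← map_pow]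
    show ψ₀ ((U * R) ^ 3) = 1
    rw [hψ₀]
    intro o ho
    have hA : Acts f a (((U * R) ^ 3 : N) : G)
        (comp (comp ymat (rmat m)) (comp (comp ymat (rmat m)) (comp ymat (rmat m)))) := by
      rw [SubgroupClass.coe_pow, pow_succ', pow_two]
      exact b.acts_mul hUR (b.acts_mul hUR hUR)
    have hassoc : ∀ (M₁ M₂ : M5) (v : V5), ap (comp M₁ M₂) v = ap M₁ (ap M₂ v) := by
      intro M₁ M₂ v
      simp only [ap, comp, Prod.ext_iff]
      constructor <;> ring
    obtain ⟨i, rfl, hi⟩ : ∃ i, o = some i ∧ (i, (1 : ZMod 5)) ∈ [((0 : ZMod 5), (1 : ZMod 5)), (m, 1), (-m, 1)] := by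
      rcases (hW o).1 ho with rfl | rfl | rfl <;> exact ⟨_, rfl, by simp⟩
    refine hcr_fix hA i ?_
    rw [hassoc (comp ymat (rmat m)) (comp (comp ymat (rmat m)) (comp ymat (rmat m))),
      hassoc (comp ymat (rmat m)) (comp ymat (rmat m))]
    exact h3 _ hi
  have huv1 : ψ (π U * π R) ≠ 1 := fun he => by
    rw [← map_mul] at he
    exact hne (hfix_cr hUR 0 ((hψ₀ (U * R)).1 he _ ((hW _).2 (Or.inl rfl))))
  obtain ⟨h24, hiso⟩ := four_times_three ψ (π S) (π U) (π R) hord hkerψ hcen hu hv hψu huv huv1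
  refine ⟨?_, hiso⟩
  rw [Subgroup.card_eq_card_quotient_mul_card_subgroup (P.subgroupOf N), h24,
    Nat.card_congr (Subgroup.subgroupOfEquivOfLe hPN).toEquiv, hP, b.card_plane h]

end Full

end Cfsg.Agent.Lib.SuzFive11
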