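import Cfsg.Agent.Lib.DihedralCentralizer.Klein
import Cfsg.Agent.Lib.Involutions.Basic
import Cfsg.Agent.S3035
import Cfsg.Agent.Lib.Cores.Pi

/-!
# Central quotients of order five and the two groups A₅, A₆ met as quotients of centralisers

Owner: helper11.
-/

set_option autoImplicit false

namespace Cfsg.Agent.Lib.SuzFive11

open Cfsg.Agent.Lib.Involutions.Basic

section Quotient

variable {C : Type*} [Group C] [Finite C] {N : Subgroup C} [N.Normal]
  (hN : N ≤ Subgroup.center C) (h5 : Nat.card N = 5)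
include hN h5

omit hN in
theorem card_mul : Nat.card C = 5 * Nat.card (C ⧸ N) := by
  rw [← h5, Subgroup.card_eq_card_quotient_mul_card_subgroup N, mul_comm]

omit hN in
theorem eq_one_of_sq {t : C} (ht : t ∈ N) (h2 : t * t = 1) : t = 1 := by
  have h : t ^ 5 = 1 := by
    have := pow_card_eq_one' (G := N) (x := ⟨t, ht⟩)
    rw [h5] at this
    exact congrArg Subtype.val this
  rwa [show (5 : ℕ) = 2 * 2 + 1 by rfl, pow_succ t (2 * 2), pow_mul t 2 2, pow_two t, h2, one_pow,
    one_mul] at h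

theorem invol_mk {t : C} (ht : orderOf t = 2) : orderOf (t : C ⧸ N) = 2 := by
  have : Fact (Nat.Prime 2) := ⟨Nat.prime_two⟩
  refine orderOf_eq_prime (by rw [← QuotientGroup.mk_pow, ← ht, pow_orderOf_eq_one]; rfl) fun e => ?_
  exact invol_ne_one ht (eq_one_of_sq h5 ((QuotientGroup.eq_one_iff t).1 e) (invol_mul_self ht))

theorem invol_inj {t t' : C} (ht : orderOf t = 2) (ht' : orderOf t' = 2)
    (e : (t : C ⧸ N) = t') : t = t' := by
  have hm := QuotientGroup.eq.1 e
  obtain ⟨w, hw⟩ : ∃ w, w = t⁻¹ * t' := ⟨_, rfl⟩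
  rw [← hw] at hm
  have hc : Commute t w := (Subgroup.mem_center_iff.1 (hN hm) t)
  have ht't : t' = t * w := by rw [hw]; group
  have h2 : w * w = 1 := by
    have h := invol_mul_self ht'
    rw [ht't, show t * w * (t * w) = t * (w * t) * w by group, ← hc.eq,
      ← mul_assoc, invol_mul_self ht, one_mul] at h
    exact h
  rw [ht't, eq_one_of_sq h5 hm h2, mul_one]

omit hN in
theorem invol_lift {y : C ⧸ N} (hy : orderOf y = 2) : ∃ t : C, orderOf t = 2 ∧ (t : C ⧸ N) = y := by
  obtain ⟨c, rfl⟩ := QuotientGroup.mk_surjective y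
  have h2 : c ^ 2 ∈ N := (QuotientGroup.eq_one_iff _).1 (by
    rw [QuotientGroup.mk_pow, ← hy, pow_orderOf_eq_one])
  have h10 : (c ^ 5) ^ 2 = 1 := by
    rw [← pow_mul, mul_comm, pow_mul]
    have := pow_card_eq_one' (G := N) (x := ⟨_, h2⟩)
    rw [h5] at this
    exact congrArg Subtype.val this
  have he : ((c ^ 5 : C) : C ⧸ N) = (c : C ⧸ N) := by
    have hcc : (c : C ⧸ N) * (c : C ⧸ N) = 1 := invol_mul_self hy
    rw [QuotientGroup.mk_pow, show (5 : ℕ) = 2 * 2 + 1 by rfl, pow_succ (c : C ⧸ N) (2 * 2),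
      pow_mul (c : C ⧸ N) 2 2, pow_two (c : C ⧸ N), hcc, one_pow, one_mul]
  have : Fact (Nat.Prime 2) := ⟨Nat.prime_two⟩
  exact ⟨c ^ 5, orderOf_eq_prime h10 fun e => invol_ne_one hy (by rw [← he, e]; rfl), he⟩

/-- Involutions of the group and of the quotient correspond. -/
theorem invol_count : Nat.card {t : C // orderOf t = 2} = Nat.card {y : C ⧸ N // orderOf y = 2} := by
  refine Nat.card_eq_of_bijective
    (fun t => (⟨(t.1 : C ⧸ N), invol_mk hN h5 t.2⟩ : {y : C ⧸ N // orderOf y = 2}))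
    ⟨fun s t e => Subtype.ext (invol_inj hN h5 s.2 t.2 (congrArg Subtype.val e)), fun y => ?_⟩
  obtain ⟨t, ht, e⟩ := invol_lift h5 y.2
  exact ⟨⟨t, ht⟩, Subtype.ext e⟩

theorem cent_eq {t : C} (ht : orderOf t = 2) :
    Subgroup.centralizer ({(t : C ⧸ N)} : Set (C ⧸ N)) =
      (Subgroup.centralizer ({t} : Set C)).map (QuotientGroup.mk' N) := by
  refine le_antisymm (fun y hy => ?_) ?_
  · obtain ⟨c, rfl⟩ := QuotientGroup.mk_surjective y
    refine ⟨c, Subgroup.mem_centralizer_singleton_iff.2 ?_, rfl⟩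
    have e := Subgroup.mem_centralizer_singleton_iff.1 hy
    have := invol_inj hN h5 (t := c * t * c⁻¹) (by rw [orderOf_conj_eq]; exact ht) ht (by
      rw [QuotientGroup.mk_mul, QuotientGroup.mk_mul, QuotientGroup.mk_inv, e, mul_inv_cancel_right])
    exact mul_inv_eq_iff_eq_mul.1 this
  · rintro _ ⟨c, hc, rfl⟩
    have := congrArg (QuotientGroup.mk' N) (Subgroup.mem_centralizer_singleton_iff.1 hc)
    rw [map_mul, map_mul] at this
    exact Subgroup.mem_centralizer_singleton_iff.2 this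

theorem cent_card {t : C} (ht : orderOf t = 2) :
    Nat.card (Subgroup.centralizer ({t} : Set C)) =
      5 * Nat.card (Subgroup.centralizer ({(t : C ⧸ N)} : Set (C ⧸ N))) := by
  set K := Subgroup.centralizer ({t} : Set C) with hK
  have hNK : N ≤ K := fun w hw =>
    Subgroup.mem_centralizer_singleton_iff.2 (Subgroup.mem_center_iff.1 (hN hw) t).symm
  rw [cent_eq hN h5 ht]
  have e := Subgroup.card_mul_index (N.subgroupOf K)
  rw [← e, Nat.card_congr (Subgroup.subgroupOfEquivOfLe hNK).toEquiv, h5]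
  congr 1
  have := Subgroup.index_ker ((QuotientGroup.mk' N).comp K.subtype)
  rw [MonoidHom.range_comp, Subgroup.range_subtype, ← MonoidHom.comap_ker, QuotientGroup.ker_mk'] at this
  exact this

end Quotient

section Recognition

variable {Y : Type*} [Group Y] [Finite Y]

/-- An odd normal subgroup meets trivially the centralisers of a four-group, so is trivial. -/
theorem odd_normal_bot {s t : Y} (hs : s * s = 1) (ht : t * t = 1) (hst : Commute s t)
    (h1 : ∀ u ∈ [s, t, s * t], IsPGroup 2 ↥(Subgroup.centralizer ({u} : Set Y)))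
    (N : Subgroup Y) (hN : N.Normal) (hodd : Odd (Nat.card N)) : N = ⊥ := by
  have hfix : ∀ u ∈ [s, t, s * t], ∀ m ∈ N, Commute m u → m = 1 := by
    intro u hu m hm hc
    obtain ⟨k, hk⟩ := h1 u hu ⟨m, Subgroup.mem_centralizer_singleton_iff.2 hc.eq⟩
    have hk' : m ^ 2 ^ k = 1 := congrArg Subtype.val hk
    have hd : orderOf m ∣ Nat.card N := Subgroup.orderOf_dvd_natCard N hm
    obtain ⟨i, -, hi⟩ := (Nat.dvd_prime_pow Nat.prime_two).1 (orderOf_dvd_of_pow_eq_one hk')
    rcases i with _ | i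
    · exact orderOf_eq_one_iff.1 (by simpa using hi)
    · exfalso
      exact Nat.not_even_iff_odd.2 (hodd.of_dvd_nat hd) (hi ▸ (by simp [pow_succ']))
  have hst2 : s * t * (s * t) = 1 := by
    rw [show s * t * (s * t) = s * (t * s) * t by group, ← hst.eq, ← mul_assoc, hs, one_mul, ht]
  have hinv : ∀ u ∈ [s, t, s * t], ∀ m ∈ N, u * m * u⁻¹ = m⁻¹ := by
    intro u hu
    have hu2 : u * u = 1 := by
      simp only [List.mem_cons, List.not_mem_nil, or_false] at hu
      rcases hu with rfl | rfl | rfl <;> assumption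
    -- `a ↦ a⁻¹ (u a u⁻¹)` is injective, so onto `N`
    let φ : N → N := fun a => ⟨(a : Y)⁻¹ * (u * a * u⁻¹), mul_mem (inv_mem a.2) (hN.conj_mem _ a.2 u)⟩
    have hinj : Function.Injective φ := by
      intro a b e
      have e' : (a : Y)⁻¹ * (u * a * u⁻¹) = (b : Y)⁻¹ * (u * b * u⁻¹) := congrArg Subtype.val e
      have hm : Commute ((b : Y) * (a : Y)⁻¹) u := by
        show _ * u = u * _
        calc (b : Y) * (a : Y)⁻¹ * u = b * ((a : Y)⁻¹ * (u * a * u⁻¹)) * (u * (a : Y)⁻¹ * u⁻¹) * u := by group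
          _ = b * ((b : Y)⁻¹ * (u * b * u⁻¹)) * (u * (a : Y)⁻¹ * u⁻¹) * u := by rw [e']
          _ = u * (b * (a : Y)⁻¹) := by group
      exact Subtype.ext (mul_inv_eq_one.1 (hfix u hu _ (mul_mem b.2 (inv_mem a.2)) hm)).symm
    intro m hm
    obtain ⟨a, ha⟩ := (Finite.injective_iff_surjective.1 hinj) ⟨m, hm⟩
    have ha' : (a : Y)⁻¹ * (u * a * u⁻¹) = m := congrArg Subtype.val ha
    have hui : u⁻¹ = u := inv_eq_of_mul_eq_one_right hu2
    rw [← ha', mul_inv_rev, inv_inv, hui]
    calc u * ((a : Y)⁻¹ * (u * a * u)) * u = u * (a : Y)⁻¹ * u * a * (u * u) := by group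
      _ = (u * a * u)⁻¹ * a := by rw [hu2, mul_one, mul_inv_rev, mul_inv_rev, hui, mul_assoc u]
  refine (Subgroup.eq_bot_iff_forall _).2 fun m hm => hfix (s * t) (by simp) m hm ?_
  have e1 := hinv t (by simp) m hm
  have e2 := hinv s (by simp) m⁻¹ (inv_mem hm)
  rw [inv_inv] at e2
  refine (mul_inv_eq_iff_eq_mul.1 ?_).symm
  calc s * t * m * (s * t)⁻¹ = s * (t * m * t⁻¹) * s⁻¹ := by group
    _ = m := by rw [e1, e2]

/-- The facts used about the quotient groups: the number of involutions, and the elements of order five. -/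
structure Five (Y : Type*) [Group Y] (m : ℕ) : Prop where
  invol : Nat.card {y : Y // orderOf y = 2} = m
  dvd : 5 ∣ Nat.card Y
  not_dvd : ¬ 25 ∣ Nat.card Y
  seven : ¬ 7 ∣ Nat.card Y
  cent : ∀ y : Y, orderOf y = 5 → Nat.card (Subgroup.centralizer ({y} : Set Y)) = 5
  invert : ∀ y : Y, orderOf y = 5 → ∃ s : Y, orderOf s = 2 ∧ s * y * s⁻¹ = y⁻¹

omit [Finite Y] in
theorem Five.of_equiv {Z : Type*} [Group Z] {m : ℕ} (h : Five Z m) (e : Y ≃* Z) : Five Y m := by
  refine ⟨?_, ?_, ?_, ?_, fun y hy => ?_, fun y hy => ?_⟩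
  · rw [← h.invol]
    exact Nat.card_congr (e.toEquiv.subtypeEquiv fun y => by
      show orderOf y = 2 ↔ orderOf (e y) = 2
      rw [MulEquiv.orderOf_eq])
  · rw [Nat.card_congr e.toEquiv]; exact h.dvd
  · rw [Nat.card_congr e.toEquiv]; exact h.not_dvd
  · rw [Nat.card_congr e.toEquiv]; exact h.seven
  · rw [← h.cent (e y) (by rw [MulEquiv.orderOf_eq, hy])]
    exact Nat.card_congr (e.toEquiv.subtypeEquiv fun w => by
      show w ∈ Subgroup.centralizer ({y} : Set Y) ↔ e w ∈ Subgroup.centralizer ({e y} : Set Z)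
      rw [Subgroup.mem_centralizer_singleton_iff, Subgroup.mem_centralizer_singleton_iff, ← map_mul,
        ← map_mul, e.injective.eq_iff])
  · obtain ⟨s, hs, hse⟩ := h.invert (e y) (by rw [MulEquiv.orderOf_eq, hy])
    refine ⟨e.symm s, by rw [MulEquiv.orderOf_eq, hs], e.injective ?_⟩
    simp [hse]

theorem cycle5 : ∀ (a : Equiv.Perm (Fin 5)), (a * (finRotate 5) = finRotate 5 * a) →
    ∃ i : Fin 5, a = (finRotate 5) ^ i.val := by decide +kernel

theorem cycle5_six : ∀ (a : Equiv.Perm (Fin 6)),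
    (a * List.formPerm [(0 : Fin 6), 1, 2, 3, 4] = List.formPerm [(0 : Fin 6), 1, 2, 3, 4] * a) →
    ∃ i : Fin 5, a = (List.formPerm [(0 : Fin 6), 1, 2, 3, 4]) ^ i.val := by decide +kernel

theorem alt_five_of {k m : ℕ} (c s : Equiv.Perm (Fin k)) (hc : orderOf c = 5) (hk : k < 10)
    (hcent : ∀ a : Equiv.Perm (Fin k), a * c = c * a → ∃ i : Fin 5, a = c ^ i.val)
    (hs : Equiv.Perm.sign s = 1) (hs2 : s * s = 1) (hsc : s * c * s⁻¹ = c⁻¹)
    (hm : (Finset.univ.filter fun a : Equiv.Perm (Fin k) => a * a = 1 ∧ a ≠ 1 ∧ Equiv.Perm.sign a = 1).card = m)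
    (hd : 5 ∣ Nat.card (alternatingGroup (Fin k))) (hnd : ¬ 25 ∣ Nat.card (alternatingGroup (Fin k)))
    (hn7 : ¬ 7 ∣ Nat.card (alternatingGroup (Fin k))) :
    Five (alternatingGroup (Fin k)) m := by
  classical
  have : Fact (Nat.Prime 5) := ⟨by norm_num⟩
  have hconj : ∀ y : alternatingGroup (Fin k), orderOf y = 5 → ∃ h, h * c * h⁻¹ = (y : Equiv.Perm (Fin k)) := by
    intro y hy
    refine isConj_iff.1 (Equiv.Perm.isConj_iff_cycleType_eq.2 ?_)
    have key : ∀ σ : Equiv.Perm (Fin k), orderOf σ = 5 → σ.cycleType = {5} := by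
      intro σ hσ
      have hp : (orderOf σ).Prime := by rw [hσ]; norm_num
      obtain ⟨j, hj⟩ := Equiv.Perm.cycleType_prime_order hp
      rw [hσ] at hj
      have hle := Equiv.Perm.sum_cycleType σ
      have hsup := Finset.card_le_univ σ.support
      rw [← hle, hj, Multiset.sum_replicate, Fintype.card_fin, smul_eq_mul] at hsup
      obtain rfl : j = 0 := by omega
      exact hj
    rw [key c hc, key _ (by rw [Subgroup.orderOf_coe, hy])]
  have hs1 : s ≠ 1 := by
    rintro rfl
    rw [one_mul, inv_one, mul_one] at hsc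
    have := orderOf_dvd_of_pow_eq_one (show c ^ 2 = 1 by rw [pow_two]; nth_rw 2 [hsc]; exact mul_inv_cancel c)
    rw [hc] at this
    norm_num at this
  refine ⟨?_, hd, hnd, hn7, fun y hy => ?_, fun y hy => ?_⟩
  · rw [← hm, Nat.card_congr (Equiv.subtypeEquivRight fun a => invol_iff),
      Nat.card_eq_fintype_card, ← Fintype.card_subtype]
    exact Fintype.card_congr
      { toFun := fun a => ⟨a.1.1, congrArg Subtype.val a.2.1, fun e => a.2.2 (Subtype.ext e), a.1.2⟩
        invFun := fun a => ⟨⟨a.1, a.2.2.2⟩, Subtype.ext a.2.1, fun e => a.2.2.1 (congrArg Subtype.val e)⟩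
        left_inv := fun a => rfl
        right_inv := fun a => rfl }
  · obtain ⟨h, hh⟩ := hconj y hy
    have hle : Subgroup.centralizer ({y} : Set (alternatingGroup (Fin k))) = Subgroup.zpowers y := by
      refine le_antisymm (fun a ha => ?_) (Subgroup.zpowers_le.2 (Subgroup.mem_centralizer_singleton_iff.2 rfl))
      have e : (a : Equiv.Perm (Fin k)) * y = y * a :=
        congrArg Subtype.val (Subgroup.mem_centralizer_singleton_iff.1 ha)
      rw [← hh] at e
      obtain ⟨i, hi⟩ := hcent (h⁻¹ * (a : Equiv.Perm (Fin k)) * h) (by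
        calc h⁻¹ * (a : Equiv.Perm (Fin k)) * h * c = h⁻¹ * ((a : Equiv.Perm (Fin k)) * (h * c * h⁻¹)) * h := by group
          _ = h⁻¹ * (h * c * h⁻¹ * (a : Equiv.Perm (Fin k))) * h := by rw [e]
          _ = c * (h⁻¹ * (a : Equiv.Perm (Fin k)) * h) := by group)
      refine Subgroup.mem_zpowers_iff.2 ⟨(i.val : ℤ), Subtype.ext ?_⟩
      rw [zpow_natCast, SubgroupClass.coe_pow, ← hh, conj_pow, ← hi]
      group
    rw [hle, Nat.card_zpowers, hy]
  · obtain ⟨h, hh⟩ := hconj y hy
    have hmem : h * s * h⁻¹ ∈ alternatingGroup (Fin k) := by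
      rw [Equiv.Perm.mem_alternatingGroup, map_mul, map_mul, hs, mul_one, ← map_mul, mul_inv_cancel, map_one]
    refine ⟨⟨_, hmem⟩, invol_iff.2 ⟨Subtype.ext ?_, fun e => hs1 ?_⟩, Subtype.ext ?_⟩
    · show h * s * h⁻¹ * (h * s * h⁻¹) = 1
      calc h * s * h⁻¹ * (h * s * h⁻¹) = h * (s * s) * h⁻¹ := by group
        _ = 1 := by rw [hs2]; group
    · exact conj_eq_one_iff.1 (congrArg Subtype.val e)
    · show h * s * h⁻¹ * (y : Equiv.Perm (Fin k)) * (h * s * h⁻¹)⁻¹ = (y : Equiv.Perm (Fin k))⁻¹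
      rw [← hh]
      calc h * s * h⁻¹ * (h * c * h⁻¹) * (h * s * h⁻¹)⁻¹ = h * (s * c * s⁻¹) * h⁻¹ := by group
        _ = (h * c * h⁻¹)⁻¹ := by rw [hsc]; group

theorem five_a5 : Five (alternatingGroup (Fin 5)) 15 := by
  have hc : orderOf (finRotate 5) = 5 := by
    have : Fact (Nat.Prime 5) := ⟨by norm_num⟩
    exact orderOf_eq_prime (by decide) (by decide)
  have hcard : Nat.card (alternatingGroup (Fin 5)) = 60 := by
    rw [Nat.card_eq_fintype_card]; rfl
  exact alt_five_of (finRotate 5) (Equiv.swap 1 4 * Equiv.swap 2 3) hc (by norm_num) cycle5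
    (by decide) (by decide) (by decide) (by decide +kernel) (by rw [hcard]; norm_num)
    (by rw [hcard]; norm_num) (by rw [hcard]; norm_num)

theorem five_a6 : Five (alternatingGroup (Fin 6)) 45 := by
  have hc : orderOf (List.formPerm [(0 : Fin 6), 1, 2, 3, 4]) = 5 := by
    have : Fact (Nat.Prime 5) := ⟨by norm_num⟩
    exact orderOf_eq_prime (by decide +kernel) (by decide +kernel)
  have hcard : Nat.card (alternatingGroup (Fin 6)) = 360 := by
    have h2 := two_mul_nat_card_alternatingGroup (α := Fin 6)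
    rw [Nat.card_perm, Nat.card_fin, show (6 : ℕ).factorial = 720 from rfl] at h2
    omega
  exact alt_five_of _ (Equiv.swap 1 4 * Equiv.swap 2 3) hc (by norm_num) cycle5_six
    (by decide +kernel) (by decide +kernel) (by decide +kernel) (by decide +kernel) (by rw [hcard]; norm_num)
    (by rw [hcard]; norm_num) (by rw [hcard]; norm_num)

/-- All involutions centralised by exactly a four-group, and the order divisible by five: `A₅`. -/
theorem of_four (t : Y) (ht : orderOf t = 2)
    (h4 : ∀ u : Y, orderOf u = 2 → Nat.card (Subgroup.centralizer ({u} : Set Y)) = 4)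
    (hsq : ∀ u : Y, orderOf u = 2 → ∀ c ∈ Subgroup.centralizer ({u} : Set Y), c * c = 1)
    (h5 : 5 ∣ Nat.card Y) : Five Y 15 := by
  have : Fact (Nat.Prime 2) := ⟨Nat.prime_two⟩
  set C := Subgroup.centralizer ({t} : Set Y) with hCdef
  have hp : ∀ u : Y, orderOf u = 2 → IsPGroup 2 ↥(Subgroup.centralizer ({u} : Set Y)) := fun u hu =>
    IsPGroup.of_card (n := 2) (by rw [h4 u hu]; norm_num)
  obtain ⟨P, hP⟩ := (hp t ht).exists_le_sylow
  have htC : t ∈ C := Subgroup.mem_centralizer_singleton_iff.2 rfl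
  have hnil : Group.IsNilpotent ↥(P : Subgroup Y) := P.2.isNilpotent
  -- a central involution of the Sylow subgroup has the same centraliser
  obtain ⟨w, hwc, hw⟩ : ∃ w : ↥(P : Subgroup Y), w ∈ Subgroup.center ↥(P : Subgroup Y) ∧ orderOf w = 2 := by
    have : Nontrivial ↥(P : Subgroup Y) := ⟨⟨⟨t, hP htC⟩, 1, fun e => invol_ne_one ht (congrArg Subtype.val e)⟩⟩
    have := P.2.center_nontrivial
    obtain ⟨w, hw⟩ := exists_prime_orderOf_dvd_card' (G := Subgroup.center ↥(P : Subgroup Y)) 2 (by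
      obtain ⟨i, hi⟩ := (P.2.to_subgroup (Subgroup.center _)).exists_card_eq
      have h1 : 1 < Nat.card (Subgroup.center ↥(P : Subgroup Y)) := Finite.one_lt_card
      rw [hi] at h1 ⊢
      rcases i with _ | i
      · norm_num at h1
      · exact dvd_pow_self 2 (Nat.succ_ne_zero i))
    exact ⟨w, w.2, by rw [Subgroup.orderOf_coe, hw]⟩
  have hPle : (P : Subgroup Y) ≤ Subgroup.centralizer ({(w : Y)} : Set Y) := fun a ha =>
    Subgroup.mem_centralizer_singleton_iff.2 (congrArg Subtype.val (Subgroup.mem_center_iff.1 hwc ⟨a, ha⟩))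
  have hw' : orderOf (w : Y) = 2 := by rw [Subgroup.orderOf_coe, hw]
  have hPC : (P : Subgroup Y) = C := (Subgroup.eq_of_le_of_card_ge hP (by
    rw [h4 t ht, ← h4 _ hw']
    exact Subgroup.card_le_of_le hPle)).symm
  have hK : IsKleinFour (P : Subgroup Y) := by
    rw [hPC]
    refine { card_four := h4 t ht, exponent_two := ?_ }
    have : Nontrivial C := ⟨⟨⟨t, htC⟩, 1, fun e => invol_ne_one ht (congrArg Subtype.val e)⟩⟩
    refine (Monoid.exponent_eq_prime_iff Nat.prime_two).2 fun g hg => ?_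
    exact orderOf_eq_prime (by rw [pow_two]; exact Subtype.ext (hsq t ht _ g.2)) hg
  obtain ⟨s, hsC, hs1, hst⟩ : ∃ s ∈ C, s ≠ 1 ∧ s ≠ t := by
    by_contra hcon
    push_neg at hcon
    have hle : ∀ a : C, a = 1 ∨ a = ⟨t, htC⟩ := fun a =>
      (eq_or_ne (a : Y) 1).imp (fun e => Subtype.ext e) fun e => Subtype.ext (hcon _ a.2 e)
    have : Nat.card C ≤ 2 := by
      classical
      have := Fintype.ofFinite C
      rw [Nat.card_eq_fintype_card, ← Finset.card_univ]
      exact le_trans (Finset.card_le_card (t := {1, ⟨t, htC⟩}) fun a _ => by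
        rcases hle a with rfl | rfl <;> simp) Finset.card_le_two
    rw [hCdef, h4 t ht] at this
    norm_num at this
  have hs2 : s * s = 1 := hsq t ht s hsC
  have hcom : Commute t s := (Subgroup.mem_centralizer_singleton_iff.1 hsC).symm
  have hu : ∀ u ∈ [t, s, t * s], orderOf u = 2 := by
    intro u hu
    simp only [List.mem_cons, List.not_mem_nil, or_false] at hu
    rcases hu with rfl | rfl | rfl
    · exact ht
    · exact invol_iff.2 ⟨hs2, hs1⟩
    · refine invol_iff.2 ⟨hsq t ht _ (mul_mem htC hsC), fun e => hst ?_⟩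
      rw [eq_inv_of_mul_eq_one_right e, inv_eq_of_mul_eq_one_right (invol_mul_self ht)]
  have hO := odd_normal_bot (invol_mul_self ht) hs2 hcom fun u h => hp u (hu u h)
  rcases Cfsg.Agent.Lib.DihedralCentralizer.Klein.cases P hK ht hPC.symm hO with h | h | ⟨⟨e⟩⟩
  · exfalso
    obtain ⟨Q, L, hL, hLc⟩ := h
    have hLodd : Odd (Nat.card L) := by
      rw [Nat.odd_iff, ← Nat.two_dvd_ne_zero, ← hLc.index_eq_card]
      exact Q.not_dvd_index
    have hbot := hO L hL hLodd
    have hY : Nat.card Y = 4 := by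
      rw [← hLc.card_mul, hbot, Subgroup.card_bot, one_mul,
        Nat.card_congr (Sylow.equiv Q P).toEquiv, hPC, hCdef, h4 t ht]
    rw [hY] at h5
    norm_num at h5
  · exfalso
    have hconj : ∀ g : Y, ∀ a ∈ C, g * a * g⁻¹ ∈ C := fun g a ha => by
      rw [← hPC] at ha ⊢
      exact h.conj_mem a ha g
    -- an element of order five fixes the three involutions
    have : Fact (Nat.Prime 5) := ⟨by norm_num⟩
    obtain ⟨g, hg⟩ := exists_prime_orderOf_dvd_card' (G := Y) 5 h5
    let T := {a : C // a ≠ 1}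
    let σ : T → T := fun a => ⟨⟨g * a.1 * g⁻¹, hconj g _ a.1.2⟩,
      fun e => a.2 (Subtype.ext (conj_eq_one_iff.1 (congrArg Subtype.val e)))⟩
    have hT : Nat.card T = 3 := by
      classical
      have := Fintype.ofFinite C
      rw [Nat.card_eq_fintype_card, Fintype.card_subtype, Finset.filter_ne', Finset.card_erase_of_mem
        (Finset.mem_univ _), Finset.card_univ, ← Nat.card_eq_fintype_card, hCdef, h4 t ht]
    let τ : T := ⟨⟨t, htC⟩, fun e => invol_ne_one ht (congrArg Subtype.val e)⟩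
    have hiter : ∀ m : ℕ, ((σ^[m] τ).1 : Y) = g ^ m * t * (g ^ m)⁻¹ := by
      intro m
      induction m with
      | zero => simp [τ]
      | succ m ih =>
        rw [Function.iterate_succ_apply']
        show g * ((σ^[m] τ).1 : Y) * g⁻¹ = _
        rw [ih, pow_succ']; group
    have hper : Function.IsPeriodicPt σ 5 τ := by
      refine Subtype.ext (Subtype.ext ?_)
      rw [hiter, ← hg, pow_orderOf_eq_one, one_mul, inv_one, mul_one]
    have hd := hper.minimalPeriod_dvd
    have hfix : σ τ = τ := by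
      rcases (Nat.dvd_prime (by norm_num : Nat.Prime 5)).1 hd with e | e
      · exact Function.minimalPeriod_eq_one_iff_isFixedPt.1 e
      · exfalso
        classical
        have := Fintype.ofFinite T
        have hinj : Set.InjOn (fun m => σ^[m] τ) (Finset.range 5 : Set ℕ) := by
          intro i hi j hj hij
          simp only [Finset.coe_range, Set.mem_Iio] at hi hj
          exact Function.iterate_injOn_Iio_minimalPeriod (f := σ) (x := τ) (e ▸ hi) (e ▸ hj) hij
        have := Finset.card_le_card_of_injOn (fun m => σ^[m] τ) (fun _ _ => Finset.mem_univ _) hinj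
          (s := Finset.range 5) (t := (Finset.univ : Finset T))
        rw [Finset.card_range, Finset.card_univ, ← Nat.card_eq_fintype_card, hT] at this
        norm_num at this
    have hgC : g ∈ C := Subgroup.mem_centralizer_singleton_iff.2
      (mul_inv_eq_iff_eq_mul.1 (congrArg (fun a : T => (a.1 : Y)) hfix))
    have := orderOf_dvd_of_pow_eq_one (show g ^ 2 = 1 by rw [pow_two]; exact hsq t ht g hgC)
    rw [hg] at this
    norm_num at this
  · exact five_a5.of_equiv e

theorem s4_not : ∃ a : Equiv.Perm (Fin 4), a * a = 1 ∧ a ≠ 1 ∧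
    (Finset.univ.filter fun g : Equiv.Perm (Fin 4) => g * a = a * g).card ≠ 8 :=
  ⟨Equiv.swap 0 1, by decide +kernel, by decide +kernel, by decide +kernel⟩

theorem s5_not : ∃ a : Equiv.Perm (Fin 5), a * a = 1 ∧ a ≠ 1 ∧
    (Finset.univ.filter fun g : Equiv.Perm (Fin 5) => g * a = a * g).card ≠ 8 :=
  ⟨Equiv.swap 0 1, by decide +kernel, by decide +kernel, by decide +kernel⟩

theorem sl32_card : Nat.card (Matrix.SpecialLinearGroup (Fin 3) (ZMod 2)) = 168 := by
  rw [Nat.card_eq_fintype_card]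
  decide +kernel

theorem dih_four_invol : ∃ a : DihedralGroup 4, a * a = 1 ∧ a ≠ 1 ∧
    (Finset.univ.filter fun g : DihedralGroup 4 => g * a = a * g).card ≠ 8 :=
  ⟨DihedralGroup.sr 0, by decide +kernel, by decide +kernel, by decide +kernel⟩

/-- All involutions centralised by exactly a dihedral group of order eight: `A₆`, or order 168. -/
theorem of_dihedral (t : Y) (ht : orderOf t = 2)
    (hD : ∀ u : Y, orderOf u = 2 → Nonempty (↥(Subgroup.centralizer ({u} : Set Y)) ≃* DihedralGroup 4)) :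
    Five Y 45 ∨ Nat.card Y = 168 := by
  have h8 : ∀ u : Y, orderOf u = 2 → Nat.card (Subgroup.centralizer ({u} : Set Y)) = 8 := fun u hu => by
    obtain ⟨e⟩ := hD u hu
    exact DihedralCentralizer.card_centralizer e
  have hbad : ∀ {P : Type} [Group P] [Fintype P] [DecidableEq P],
      (∃ a : P, a * a = 1 ∧ a ≠ 1 ∧ (Finset.univ.filter fun g : P => g * a = a * g).card ≠ 8) →
      ¬ Nonempty (Y ≃* P) := by
    rintro P _ _ _ ⟨a, ha, ha1, hne⟩ ⟨e⟩
    refine hne ?_
    have hu : orderOf (e.symm a) = 2 := by rw [MulEquiv.orderOf_eq]; exact invol_iff.2 ⟨ha, ha1⟩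
    rw [← h8 _ hu, ← Fintype.card_subtype, ← Nat.card_eq_fintype_card]
    refine Nat.card_congr (e.symm.toEquiv.subtypeEquiv fun g => ?_)
    show g * a = a * g ↔ e.symm g ∈ Subgroup.centralizer ({e.symm a} : Set Y)
    rw [Subgroup.mem_centralizer_singleton_iff, ← map_mul, ← map_mul, e.symm.injective.eq_iff]
  rcases Cfsg.Agent.S3035.result t ht (hD t ht) with h | h | h | ⟨⟨e⟩⟩ | ⟨⟨e⟩⟩
  · exfalso
    obtain ⟨e⟩ := hD t ht
    obtain ⟨a, ha⟩ : ∃ a : DihedralGroup 4, a * a = 1 ∧ a ≠ 1 ∧ a ≠ e ⟨t, Subgroup.mem_centralizer_singleton_iff.2 rfl⟩ := by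
      have : ∀ b : DihedralGroup 4, ∃ a : DihedralGroup 4, a * a = 1 ∧ a ≠ 1 ∧ a ≠ b := by decide +kernel
      exact this _
    obtain ⟨c, rfl⟩ := e.surjective a
    obtain ⟨ha2, ha1, hat⟩ := ha
    rw [← map_mul, MulEquiv.map_eq_one_iff] at ha2
    have hc2 : (c : Y) * c = 1 := congrArg Subtype.val ha2
    have hc1 : (c : Y) ≠ 1 := fun h => ha1 (by rw [show c = 1 from Subtype.ext h, map_one])
    have hct : (c : Y) ≠ t := fun h => hat (congrArg e (Subtype.ext h))
    have hcom : Commute t (c : Y) := (Subgroup.mem_centralizer_singleton_iff.1 c.2).symm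
    have hO := odd_normal_bot (invol_mul_self ht) hc2 hcom fun u hu => by
      refine IsPGroup.of_card (n := 3) ?_
      rw [h8 u ?_]
      · norm_num
      simp only [List.mem_cons, List.not_mem_nil, or_false] at hu
      rcases hu with rfl | rfl | rfl
      · exact ht
      · exact invol_iff.2 ⟨hc2, hc1⟩
      · refine invol_iff.2 ⟨?_, fun h => hct ?_⟩
        · rw [show t * (c : Y) * (t * (c : Y)) = t * ((c : Y) * t) * (c : Y) by group, hcom.symm.eq, ← mul_assoc,
            invol_mul_self ht, one_mul, hc2]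
        · rw [eq_inv_of_mul_eq_one_right h, inv_eq_of_mul_eq_one_right (invol_mul_self ht)]
    have : Fact (Nat.Prime 2) := ⟨Nat.prime_two⟩
    rw [hO (Cfsg.oddCore Y) inferInstance Cfsg.Agent.Lib.Cores.oddCore_odd, sup_bot_eq] at h
    refine hbad dih_four_invol ⟨?_⟩
    exact (Subgroup.topEquiv.symm.trans ((MulEquiv.subgroupCongr h.symm).trans e))
  · exact absurd h (hbad s4_not)
  · exact absurd h (hbad s5_not)
  · exact Or.inr (by rw [Nat.card_congr e.toEquiv, sl32_card])
  · exact Or.inl (five_a6.of_equiv e)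

end Recognition

end Cfsg.Agent.Lib.SuzFive11
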