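import Cfsg.Agent.Lib.SuzFive11.Local
import Cfsg.Agent.Lib.SuzFive11.Quot
import Cfsg.Agent.Lib.SuzSeven52.Data

/-!
# Suzuki type: the centralisers of the elements of order five

Owner: helper11.
-/

set_option autoImplicit false

namespace Cfsg.Agent.Lib.SuzFive11

open Cfsg.Agent.Lib.SuzType52 Cfsg.Agent.Lib.Involutions.Basic
open Cfsg.Agent.Lib.SuzSeven52 (BT FiveB)

variable {G : Type*} [Group G] [Finite G] {z : G} {Q : Subgroup G} {co : G → ℕ} {ac : G → ℕ → ℕ}
  {x n : G}

/-- An element of order five centralised by a conjugate of `z`. -/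
def RT (z c : G) : Prop := orderOf c = 5 ∧ ∃ t, IsConj z t ∧ Commute c t

/-- An element of order five centralised by an involution outside the class of `z`. -/
def WT (z c : G) : Prop := orderOf c = 5 ∧ ∃ v, BT z v ∧ Commute c v

/-- What is used about a centraliser of an element of order five. -/
structure Cent5 (c : G) (m : ℕ) : Prop where
  invol : Nat.card {t : G // orderOf t = 2 ∧ Commute c t} = m
  dvd : 25 ∣ Nat.card (Subgroup.centralizer ({c} : Set G))
  not_dvd : ¬ 125 ∣ Nat.card (Subgroup.centralizer ({c} : Set G))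
  cent : ∀ a : G, orderOf a = 5 → Commute c a → a ∉ Subgroup.zpowers c →
    Nat.card (Subgroup.centralizer ({c, a} : Set G)) = 25
  invert : ∀ a : G, orderOf a = 5 → Commute c a → a ∉ Subgroup.zpowers c →
    ∃ y, orderOf y = 2 ∧ Commute c y ∧ y * a * y⁻¹ * a ∈ Subgroup.zpowers c
  seven : ¬ 7 ∣ Nat.card (Subgroup.centralizer ({c} : Set G))
  pair : ∃ y a, orderOf y = 2 ∧ Commute c y ∧ orderOf a = 5 ∧ Commute c a ∧ a ∉ Subgroup.zpowers c ∧
    y * a * y⁻¹ = a⁻¹

omit [Finite G] in
theorem mem_pair {a b g : G} :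
    g ∈ Subgroup.centralizer ({a, b} : Set G) ↔ Commute g a ∧ Commute g b := by
  rw [Subgroup.mem_centralizer_iff]
  simp only [Set.mem_insert_iff, Set.mem_singleton_iff, forall_eq_or_imp, forall_eq]
  exact ⟨fun h => ⟨h.1.symm, h.2.symm⟩, fun h => ⟨h.1.eq.symm, h.2.eq.symm⟩⟩

section Quot

variable (c : G)

/-- The subgroup generated by `c` in its centraliser. -/
def cycN : Subgroup ↥(Subgroup.centralizer ({c} : Set G)) :=
  (Subgroup.zpowers c).subgroupOf (Subgroup.centralizer ({c} : Set G))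

omit [Finite G] in
theorem cycN_le : cycN c ≤ Subgroup.center ↥(Subgroup.centralizer ({c} : Set G)) := fun w hw =>
  Subgroup.mem_center_iff.2 fun g => Subtype.ext (by
    obtain ⟨i, hi⟩ := Subgroup.mem_zpowers_iff.1 hw
    have hc : Commute (g : G) c := Subgroup.mem_centralizer_singleton_iff.1 g.2
    show (g : G) * w = w * g
    rw [show (w : G) = c ^ i from hi.symm]
    exact (hc.zpow_right i).eq)

omit [Finite G] in
instance cycN_normal : (cycN c).Normal :=
  ⟨fun w hw g => by
    rw [Subgroup.mem_center_iff.1 (cycN_le c hw) g, mul_inv_cancel_right]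
    exact hw⟩

omit [Finite G] in
theorem cycN_card (h : orderOf c = 5) : Nat.card (cycN c) = 5 := by
  rw [cycN, Nat.card_congr (Subgroup.subgroupOfEquivOfLe
    (Subgroup.zpowers_le.2 (Subgroup.mem_centralizer_singleton_iff.2 rfl))).toEquiv, Nat.card_zpowers, h]

omit [Finite G] in
theorem card_cent_sub (t : ↥(Subgroup.centralizer ({c} : Set G))) :
    Nat.card (Subgroup.centralizer ({t} : Set ↥(Subgroup.centralizer ({c} : Set G)))) =
      Nat.card (Subgroup.centralizer ({(t : G), c} : Set G)) :=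
  Nat.card_congr
    { toFun := fun g => ⟨g.1.1, mem_pair.2 ⟨congrArg Subtype.val (Subgroup.mem_centralizer_singleton_iff.1 g.2),
        Subgroup.mem_centralizer_singleton_iff.1 g.1.2⟩⟩
      invFun := fun g => ⟨⟨g.1, Subgroup.mem_centralizer_singleton_iff.2 (mem_pair.1 g.2).2⟩,
        Subgroup.mem_centralizer_singleton_iff.2 (Subtype.ext (mem_pair.1 g.2).1)⟩
      left_inv := fun g => rfl
      right_inv := fun g => rfl }

theorem cent5_of {m : ℕ} (hc : orderOf c = 5)
    (h : Five (↥(Subgroup.centralizer ({c} : Set G)) ⧸ cycN c) m) : Cent5 c m := by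
  have hN := cycN_le c
  have h5 := cycN_card c hc
  have : Fact (Nat.Prime 5) := ⟨by norm_num⟩
  have hlift : ∀ a : G, orderOf a = 5 → ∀ hca : Commute c a, a ∉ Subgroup.zpowers c →
      orderOf ((⟨a, Subgroup.mem_centralizer_singleton_iff.2 hca.symm⟩ :
        ↥(Subgroup.centralizer ({c} : Set G))) : ↥(Subgroup.centralizer ({c} : Set G)) ⧸ cycN c) = 5 := by
    intro a ha hca hna
    refine orderOf_eq_prime ?_ fun e => hna ((QuotientGroup.eq_one_iff (N := cycN c) _).1 e)
    rw [← QuotientGroup.mk_pow, QuotientGroup.eq_one_iff]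
    show _ ∈ cycN c
    have : (⟨a, Subgroup.mem_centralizer_singleton_iff.2 hca.symm⟩ :
        ↥(Subgroup.centralizer ({c} : Set G))) ^ 5 = 1 :=
      Subtype.ext (by rw [SubgroupClass.coe_pow, ← ha, pow_orderOf_eq_one]; rfl)
    rw [this]
    exact one_mem _
  refine ⟨?_, ?_, ?_, fun a ha hca hna => ?_, fun a ha hca hna => ?_, ?_, ?_⟩
  · rw [← h.invol, ← invol_count hN h5]
    exact Nat.card_congr
      { toFun := fun t => ⟨⟨t.1, Subgroup.mem_centralizer_singleton_iff.2 t.2.2.symm⟩,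
          by rw [Subgroup.orderOf_mk]; exact t.2.1⟩
        invFun := fun t => ⟨t.1.1, by rw [Subgroup.orderOf_coe]; exact t.2,
          (Subgroup.mem_centralizer_singleton_iff.1 t.1.2).symm⟩
        left_inv := fun t => rfl
        right_inv := fun t => rfl }
  · rw [card_mul h5]
    obtain ⟨k, hk⟩ := h.dvd
    exact ⟨k, by rw [hk]; ring⟩
  · rw [card_mul h5]
    intro hd
    obtain ⟨k, hk⟩ := hd
    exact h.not_dvd ⟨k, by omega⟩
  · set A : ↥(Subgroup.centralizer ({c} : Set G)) :=
      ⟨a, Subgroup.mem_centralizer_singleton_iff.2 hca.symm⟩ with hA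
    have hy := hlift a ha hca hna
    have h1 := h.cent _ hy
    rw [Set.pair_comm, ← card_cent_sub c A]
    set K := Subgroup.centralizer ({A} : Set ↥(Subgroup.centralizer ({c} : Set G))) with hK
    have hNK : cycN c ≤ K := fun w hw =>
      Subgroup.mem_centralizer_singleton_iff.2 (Subgroup.mem_center_iff.1 (hN hw) A).symm
    have hmap : K.map (QuotientGroup.mk' (cycN c)) = Subgroup.zpowers (A : _ ⧸ cycN c) := by
      symm
      refine Subgroup.eq_of_le_of_card_ge (Subgroup.zpowers_le.2 ⟨A, Subgroup.mem_centralizer_singleton_iff.2 rfl, rfl⟩) ?_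
      rw [Nat.card_zpowers, hy, ← h1]
      refine Subgroup.card_le_of_le ?_
      rintro _ ⟨g, hg, rfl⟩
      have := congrArg (QuotientGroup.mk' (cycN c)) (Subgroup.mem_centralizer_singleton_iff.1 hg)
      rw [map_mul, map_mul] at this
      exact Subgroup.mem_centralizer_singleton_iff.2 this
    have e := Subgroup.card_mul_index ((cycN c).subgroupOf K)
    rw [Nat.card_congr (Subgroup.subgroupOfEquivOfLe hNK).toEquiv, h5] at e
    have := Subgroup.index_ker ((QuotientGroup.mk' (cycN c)).comp K.subtype)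
    rw [MonoidHom.range_comp, Subgroup.range_subtype, ← MonoidHom.comap_ker, QuotientGroup.ker_mk', hmap,
      Nat.card_zpowers, hy] at this
    rw [← e, show ((cycN c).subgroupOf K).index = 5 from this]
  · obtain ⟨s, hs, hse⟩ := h.invert _ (hlift a ha hca hna)
    obtain ⟨t, ht, rfl⟩ := invol_lift h5 hs
    refine ⟨t, by rw [Subgroup.orderOf_coe]; exact ht, (Subgroup.mem_centralizer_singleton_iff.1 t.2).symm, ?_⟩
    rw [← QuotientGroup.mk_inv, ← QuotientGroup.mk_mul, ← QuotientGroup.mk_mul, ← QuotientGroup.mk_inv,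
      eq_comm, QuotientGroup.eq] at hse
    simp only [cycN, Subgroup.mem_subgroupOf, Subgroup.coe_mul, Subgroup.coe_inv, mul_inv_rev, inv_inv] at hse
    obtain ⟨i, hi⟩ := Subgroup.mem_zpowers_iff.1 hse
    have hai : Commute a (c ^ i) := hca.symm.zpow_right i
    refine Subgroup.mem_zpowers_iff.2 ⟨i, ?_⟩
    calc c ^ i = a⁻¹ * (a * c ^ i) := (inv_mul_cancel_left a _).symm
      _ = a⁻¹ * (c ^ i * a) := by rw [hai.eq]
      _ = _ := by rw [hi]; group
  · rw [card_mul h5]
    intro hd
    exact h.seven ((Nat.Coprime.dvd_mul_left (by norm_num)).1 hd)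
  · obtain ⟨w, hw⟩ := exists_prime_orderOf_dvd_card' 5 h.dvd
    obtain ⟨s, hs, hsw⟩ := h.invert w hw
    obtain ⟨t, ht, rfl⟩ := invol_lift h5 hs
    obtain ⟨A, rfl⟩ := QuotientGroup.mk_surjective w
    have htt : t * t = 1 := invol_mul_self ht
    set B := A * (t * A⁻¹ * t⁻¹) with hB
    have hinv : t * B * t⁻¹ = B⁻¹ := by
      have ht' : t⁻¹ = t := inv_eq_of_mul_eq_one_right htt
      rw [hB, mul_inv_rev, mul_inv_rev, mul_inv_rev, inv_inv, inv_inv, ht']
      calc t * (A * (t * A⁻¹ * t)) * t = t * A * t * A⁻¹ * (t * t) := by group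
        _ = t * (A * t) * A⁻¹ := by rw [htt, mul_one]; group
    have hBq : (B : _ ⧸ cycN c) = (A : _ ⧸ cycN c) ^ 2 := by
      have hs' : (t : _ ⧸ cycN c) * (A : _ ⧸ cycN c)⁻¹ * (t : _ ⧸ cycN c)⁻¹ = (A : _ ⧸ cycN c) := by
        rw [← conj_inv, hsw, inv_inv]
      rw [hB, QuotientGroup.mk_mul, QuotientGroup.mk_mul, QuotientGroup.mk_mul, QuotientGroup.mk_inv,
        QuotientGroup.mk_inv, hs', pow_two]
    have hBn : B ∉ cycN c := fun hm => by
      have e := (QuotientGroup.eq_one_iff (N := cycN c) B).2 hm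
      rw [hBq] at e
      have := orderOf_dvd_of_pow_eq_one e
      rw [hw] at this
      norm_num at this
    have hB5N : B ^ 5 ∈ cycN c := (QuotientGroup.eq_one_iff (N := cycN c) _).1 (by
      rw [QuotientGroup.mk_pow, hBq, ← pow_mul, mul_comm, pow_mul, ← hw, pow_orderOf_eq_one, one_pow])
    have hB5 : B ^ 5 = 1 := by
      refine eq_one_of_sq h5 hB5N ?_
      have e : (B ^ 5)⁻¹ = B ^ 5 := by
        rw [← inv_pow, ← hinv, conj_pow, Subgroup.mem_center_iff.1 (hN hB5N) t, mul_inv_cancel_right]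
      calc B ^ 5 * B ^ 5 = B ^ 5 * (B ^ 5)⁻¹ := by rw [e]
        _ = 1 := mul_inv_cancel _
    refine ⟨t, B, by rw [Subgroup.orderOf_coe]; exact ht,
      (Subgroup.mem_centralizer_singleton_iff.1 t.2).symm, ?_,
      (Subgroup.mem_centralizer_singleton_iff.1 B.2).symm, hBn, congrArg Subtype.val hinv⟩
    rw [Subgroup.orderOf_coe]
    exact orderOf_eq_prime hB5 fun e => hBn (e ▸ one_mem _)

end Quot

/-- A cyclic group of order five that is not a Sylow subgroup is centralised by one of order `25`. -/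
theorem dvd_cent {c : G} (hc : orderOf c = 5) (hG : 25 ∣ Nat.card G) :
    25 ∣ Nat.card (Subgroup.centralizer ({c} : Set G)) := by
  have : Fact (Nat.Prime 5) := ⟨by norm_num⟩
  have hc5 : Nat.card (Subgroup.zpowers c) = 5 ^ 1 := by rw [Nat.card_zpowers, hc, pow_one]
  obtain ⟨K, hK, hle⟩ := Sylow.exists_subgroup_card_pow_succ (p := 5) (G := G) (n := 1) (by simpa using hG) hc5
  have hab := IsPGroup.isMulCommutative_of_card_eq_prime_sq (p := 5) (G := K) (by rw [hK])
  rw [show (25 : ℕ) = Nat.card K by rw [hK]; norm_num]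
  refine Subgroup.card_dvd_of_le fun k hk => Subgroup.mem_centralizer_singleton_iff.2 ?_
  exact congrArg Subtype.val (hab.is_comm.comm ⟨k, hk⟩ ⟨c, hle (Subgroup.mem_zpowers c)⟩)

namespace Gen5

variable (d : Duo z Q co ac x n) {f : G} (hf : Gen5 z ac f)
include d hf

/-- The elements of order five of `C(z)` are conjugate there to powers of `f`. -/
theorem conj_power {c : G} (hc : orderOf c = 5) (hcz : Commute c z) :
    ∃ h, Commute h z ∧ ∃ j : ℕ, c = h * f ^ j * h⁻¹ := by
  have : Fact (Nat.Prime 5) := ⟨by norm_num⟩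
  set C := Subgroup.centralizer ({z} : Set G) with hC
  have hmem : ∀ {g : G}, Commute g z → g ∈ C := fun h => Subgroup.mem_centralizer_singleton_iff.2 h.eq
  set F : C := ⟨f, hmem hf.comm⟩ with hF
  have hFo : orderOf F = 5 := by rw [hF, Subgroup.orderOf_mk, hf.ord]
  obtain ⟨S, hS⟩ := (IsPGroup.of_card (n := 1) (by rw [Nat.card_zpowers, hFo, pow_one]) :
    IsPGroup 5 (Subgroup.zpowers F)).exists_le_sylow
  have hSeq : (S : Subgroup C) = Subgroup.zpowers F := by
    refine le_antisymm ?_ hS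
    by_contra hnle
    have hcard : 25 ∣ Nat.card (S : Subgroup C) := by
      obtain ⟨m, hm⟩ := S.2.exists_card_eq
      have hlt : 5 < Nat.card (S : Subgroup C) := by
        by_contra h
        exact hnle (Subgroup.eq_of_le_of_card_ge hS (by rw [Nat.card_zpowers, hFo]; omega)).ge
      rw [hm] at hlt ⊢
      rcases m with _ | _ | m
      · norm_num at hlt
      · norm_num at hlt
      · exact ⟨5 ^ m, by ring⟩
    have h1 : 25 ∣ Nat.card (Subgroup.centralizer ({F} : Set C)) :=
      dvd_cent hFo (hcard.trans (Subgroup.card_subgroup_dvd_card _))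
    obtain ⟨K, hK⟩ := Sylow.exists_subgroup_card_pow_prime (p := 5) (n := 2)
      (G := Subgroup.centralizer ({F} : Set C)) (by simpa using h1)
    have h2 : ∀ k ∈ K, ((k : C) : G) ∈ Subgroup.zpowers f := by
      intro k hk
      have hkz : Commute ((k : C) : G) z := Subgroup.mem_centralizer_singleton_iff.1 (k : C).2
      have hkf : Commute ((k : C) : G) f :=
        congrArg Subtype.val (Subgroup.mem_centralizer_singleton_iff.1 k.2)
      obtain ⟨i, -, hiQ, -⟩ := hf.cent d hkz hkf
      have h25 : ((k : C) : G) ^ 25 = 1 := by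
        have := pow_card_eq_one' (G := K) (x := ⟨k, hk⟩)
        rw [hK] at this
        have e : k ^ 25 = 1 := congrArg Subtype.val this
        exact congrArg (fun y : ↥(Subgroup.centralizer ({F} : Set C)) => ((y : C) : G)) e
      have hw : (((k : C) : G) * f ^ i) ^ 25 = 1 := by
        rw [(hkf.pow_right i).mul_pow, h25, one_mul, ← pow_mul, mul_comm, pow_mul,
          orderOf_dvd_iff_pow_eq_one.1 (show orderOf f ∣ 25 by rw [hf.ord]; norm_num), one_pow]
      have hw4 : (((k : C) : G) * f ^ i) ^ 4 = 1 := by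
        rw [pow_succ, pow_succ, pow_succ, pow_one, mul_assoc, d.fr.sq _ hiQ]
        cases qn (co (((k : C) : G) * f ^ i))
        · exact mul_one 1
        · exact d.fr.es.sq
      have h1' : ((k : C) : G) * f ^ i = 1 := by
        rw [show (25 : ℕ) = 4 * 6 + 1 by rfl, pow_succ, pow_mul, hw4, one_pow, one_mul] at hw
        exact hw
      rw [eq_inv_of_mul_eq_one_left h1']
      exact inv_mem (pow_mem (Subgroup.mem_zpowers f) i)
    have hle : Nat.card K ≤ Nat.card (Subgroup.zpowers f) :=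
      Nat.card_le_card_of_injective (fun k : K => (⟨((k.1 : C) : G), h2 k.1 k.2⟩ : Subgroup.zpowers f))
        fun a b e => Subtype.ext (Subtype.ext (Subtype.ext
          (congrArg (fun y : Subgroup.zpowers f => (y : G)) e)))
    rw [hK, Nat.card_zpowers, hf.ord] at hle
    norm_num at hle
  have hco : orderOf (⟨c, hmem hcz⟩ : C) = 5 := by rw [Subgroup.orderOf_mk, hc]
  obtain ⟨T, hT⟩ := (IsPGroup.of_card (n := 1) (by rw [Nat.card_zpowers, hco, pow_one]) :
    IsPGroup 5 (Subgroup.zpowers (⟨c, hmem hcz⟩ : C))).exists_le_sylow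
  obtain ⟨h, hh⟩ := MulAction.exists_smul_eq C S T
  have hm := hT (Subgroup.mem_zpowers _)
  rw [← hh, Sylow.coe_subgroup_smul, hSeq] at hm
  obtain ⟨y, hy, he⟩ := hm
  obtain ⟨j, rfl⟩ := mem_powers_iff_mem_zpowers.2 hy
  exact ⟨h, Subgroup.mem_centralizer_singleton_iff.1 h.2, j, (congrArg Subtype.val he).symm⟩

theorem exists_pair : ∃ y ∈ Q, co y = 2 ∧ y * y = 1 ∧ InF Q co x ∧ InF Q co y ∧
    x * y * (x * y) = z := by
  obtain ⟨y, hy, hyc⟩ := d.fr.co_surj 2 (by norm_num)
  refine ⟨y, hy, hyc, ?_, ⟨d.xQ, by rw [d.cox]; norm_num⟩, ⟨hy, by omega⟩, ?_⟩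
  · rw [d.fr.sq y hy, hyc]; rfl
  · rw [d.fr.sq _ (mul_mem d.xQ hy), d.fr.co_mul x d.xQ y hy, d.cox, hyc]; rfl

/-- The image of `C(z) ∩ C(c)` modulo `⟨c⟩` is dihedral of order eight. -/
theorem dihedral_at {c t : G} (hc : orderOf c = 5) (ht : IsConj z t) (hct : Commute c t) :
    Nonempty (↥(Subgroup.centralizer
      ({((⟨t, Subgroup.mem_centralizer_singleton_iff.2 hct.symm.eq⟩ : ↥(Subgroup.centralizer ({c} : Set G))) :
        ↥(Subgroup.centralizer ({c} : Set G)) ⧸ cycN c)} : Set _)) ≃* DihedralGroup 4) := by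
  obtain ⟨g, rfl⟩ := isConj_iff.1 ht
  have hc' : Commute (g⁻¹ * c * g) z := by
    have := hct.map (MulAut.conj g⁻¹).toMonoidHom
    simpa [mul_assoc] using this
  have hco : orderOf (g⁻¹ * c * g) = 5 := by
    have := orderOf_conj_eq g⁻¹ c
    rw [inv_inv] at this
    rw [this, hc]
  obtain ⟨h, hh, j, hj⟩ := hf.conj_power d hco hc'
  set k := g * h with hk
  have hkz : k * z * k⁻¹ = g * z * g⁻¹ := by
    rw [hk, show g * h * z * (g * h)⁻¹ = g * (h * z * h⁻¹) * g⁻¹ by group, mul_inv_eq_iff_eq_mul.2 hh.eq]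
  have hkf : k * f ^ j * k⁻¹ = c := by
    rw [hk, show g * h * f ^ j * (g * h)⁻¹ = g * (h * f ^ j * h⁻¹) * g⁻¹ by group, ← hj]; group
  -- `f` is a power of `f ^ j`
  obtain ⟨i, hi⟩ : ∃ i : ℕ, (f ^ j) ^ i = f := by
    have hne : f ^ j ≠ 1 := fun e => by
      rw [e, mul_one, mul_inv_cancel] at hkf
      rw [← hkf, orderOf_one] at hc
      norm_num at hc
    have h5 : orderOf (f ^ j) = 5 := by
      have : Fact (Nat.Prime 5) := ⟨by norm_num⟩
      exact orderOf_eq_prime (by rw [← pow_mul, mul_comm, pow_mul, ← hf.ord, pow_orderOf_eq_one, one_pow]) hne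
    have : Subgroup.zpowers (f ^ j) = Subgroup.zpowers f :=
      Subgroup.eq_of_le_of_card_ge (Subgroup.zpowers_le.2 (pow_mem (Subgroup.mem_zpowers f) j))
        (by rw [Nat.card_zpowers, Nat.card_zpowers, h5, hf.ord])
    exact mem_powers_iff_mem_zpowers.2 (this ▸ Subgroup.mem_zpowers f)
  set C := Subgroup.centralizer ({c} : Set G) with hC
  set t : C := ⟨g * z * g⁻¹, _⟩ with htdef
  have hmemC : ∀ {q : G}, InF Q co q → k * q * k⁻¹ ∈ C := fun {q} hq =>
    Subgroup.mem_centralizer_singleton_iff.2 (by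
      have := ((hf.commute_inF d hq).pow_right j).map (MulAut.conj k).toMonoidHom
      simp only [MulEquiv.coe_toMonoidHom, MulAut.conj_apply, hkf] at this
      exact this.eq)
  obtain ⟨y, hy, hyc, hy2, hxF, hyF, hxy⟩ := hf.exists_pair d
  set X : C := ⟨k * x * k⁻¹, hmemC hxF⟩ with hX
  set Y : C := ⟨k * y * k⁻¹, hmemC hyF⟩ with hY
  have hN := cycN_le c
  have h5 := cycN_card c hc
  have hord : ∀ {q : G}, q * q = 1 → q ≠ 1 → ∀ hq : k * q * k⁻¹ ∈ C,
      orderOf (⟨k * q * k⁻¹, hq⟩ : C) = 2 := fun h2 h1 hq => by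
    rw [Subgroup.orderOf_mk, orderOf_conj_eq]
    exact invol_iff.2 ⟨h2, h1⟩
  have hy1 : y ≠ 1 := fun e => by rw [e, d.fr.co_one] at hyc; norm_num at hyc
  have hXo := invol_mk hN h5 (hord d.xsq d.x_ne.1 (hmemC hxF))
  have hYo := invol_mk hN h5 (hord hy2 hy1 (hmemC hyF))
  have hto : orderOf t = 2 := by rw [htdef, Subgroup.orderOf_mk, orderOf_conj_eq, d.fr.ord]
  have htq := invol_mk hN h5 hto
  have hXY2 : (X * Y) * (X * Y) = t := Subtype.ext (by
    show k * x * k⁻¹ * (k * y * k⁻¹) * (k * x * k⁻¹ * (k * y * k⁻¹)) = g * z * g⁻¹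
    rw [show k * x * k⁻¹ * (k * y * k⁻¹) * (k * x * k⁻¹ * (k * y * k⁻¹)) = k * (x * y * (x * y)) * k⁻¹ by group,
      hxy, hkz])
  have h4 : orderOf ((X : C ⧸ cycN c) * (Y : C ⧸ cycN c)) = 4 := by
    have e2 : ((X : C ⧸ cycN c) * (Y : C ⧸ cycN c)) ^ 2 = (t : C ⧸ cycN c) := by
      rw [pow_two, ← QuotientGroup.mk_mul, ← QuotientGroup.mk_mul, hXY2]
    refine orderOf_eq_prime_pow (p := 2) (n := 1) ?_ ?_
    · rw [pow_one, e2]; exact invol_ne_one htq
    · rw [pow_succ, pow_mul, pow_one, e2, pow_two, invol_mul_self htq]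
  have hcl := card_closure_pair hXo hYo
  rw [h4] at hcl
  refine ⟨((MulEquiv.subgroupCongr ?_).trans (closurePairEquiv hXo hYo)).trans (h4 ▸ MulEquiv.refl _)⟩
  refine le_antisymm (fun w hw => ?_) ((Subgroup.closure_le _).2 ?_)
  · rw [cent_eq hN h5 hto] at hw
    obtain ⟨w, hw, rfl⟩ := hw
    have hwt : Commute (w : G) (k * z * k⁻¹) := by
      rw [hkz]; exact congrArg Subtype.val (Subgroup.mem_centralizer_singleton_iff.1 hw)
    have hwc : Commute (w : G) (k * f ^ j * k⁻¹) := by
      rw [hkf]; exact Subgroup.mem_centralizer_singleton_iff.1 w.2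
    have h1 : Commute (k⁻¹ * w * k) z := by
      have := hwt.map (MulAut.conj k⁻¹).toMonoidHom
      simpa [mul_assoc] using this
    have h2 : Commute (k⁻¹ * w * k) f := by
      have := hwc.map (MulAut.conj k⁻¹).toMonoidHom
      have h' : Commute (k⁻¹ * w * k) (f ^ j) := by simpa [mul_assoc] using this
      rw [← hi]
      exact h'.pow_right i
    obtain ⟨l, -, hl⟩ := hf.cent d h1 h2
    -- the part in `Q`
    have key : ∀ q, InF Q co q → ∃ a ∈ Subgroup.closure ({X, Y} : Set C), (a : G) = k * q * k⁻¹ := by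
      intro q hq
      have hsub : ∀ e : ℕ, e < 4 → ∃ a ∈ Subgroup.closure ({x, y} : Set G), a ∈ Q ∧ co a = e := by
        have hx' : x ∈ Subgroup.closure ({x, y} : Set G) := Subgroup.subset_closure (by simp)
        have hy' : y ∈ Subgroup.closure ({x, y} : Set G) := Subgroup.subset_closure (by simp)
        intro e he
        interval_cases e
        · exact ⟨1, one_mem _, one_mem _, d.fr.co_one⟩
        · exact ⟨x, hx', d.xQ, d.cox⟩
        · exact ⟨y, hy', hy, hyc⟩
        · exact ⟨x * y, mul_mem hx' hy', mul_mem d.xQ hy, by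
            rw [d.fr.co_mul x d.xQ y hy, d.cox, hyc]; rfl⟩
      obtain ⟨a, ha, haQ, hac⟩ := hsub _ hq.2
      have hzm : z ∈ Subgroup.closure ({x, y} : Set G) := hxy ▸ mul_mem
        (mul_mem (Subgroup.subset_closure (by simp)) (Subgroup.subset_closure (by simp)))
        (mul_mem (Subgroup.subset_closure (by simp)) (Subgroup.subset_closure (by simp)))
      have hqm : q ∈ Subgroup.closure ({x, y} : Set G) := by
        rcases d.fr.co_eq haQ hq.1 hac with rfl | rfl
        · exact ha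
        · exact mul_mem ha hzm
      have : ((Subgroup.closure ({X, Y} : Set C)).map C.subtype) =
          (Subgroup.closure ({x, y} : Set G)).map (MulAut.conj k).toMonoidHom := by
        rw [MonoidHom.map_closure, MonoidHom.map_closure]
        congr 1
        simp [Set.image_insert_eq, hX, hY]
      obtain ⟨a', ha', ea⟩ := (Set.ext_iff.1 (congrArg SetLike.coe this) (k * q * k⁻¹)).2 ⟨q, hqm, rfl⟩
      exact ⟨a', ha', ea⟩
    obtain ⟨a, ha, hae⟩ := key _ hl
    have hwa : (QuotientGroup.mk' (cycN c)) w = QuotientGroup.mk' (cycN c) a := by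
      refine (QuotientGroup.eq (s := cycN c)).2 ?_
      show (w : G)⁻¹ * (a : G) ∈ Subgroup.zpowers c
      rw [hae, show (w : G)⁻¹ * (k * (k⁻¹ * w * k * f ^ l) * k⁻¹) = k * f ^ l * k⁻¹ by group,
        ← hi, ← pow_mul, ← conj_pow, hkf]
      exact pow_mem (Subgroup.mem_zpowers c) _
    rw [hwa]
    have := Subgroup.mem_map_of_mem (QuotientGroup.mk' (cycN c)) ha
    rw [MonoidHom.map_closure, Set.image_pair] at this
    exact this
  · have hcomm : ∀ {q : G}, InF Q co q → ∀ hq : k * q * k⁻¹ ∈ C,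
        ((⟨k * q * k⁻¹, hq⟩ : C) : C ⧸ cycN c) ∈ Subgroup.centralizer ({(t : C ⧸ cycN c)} : Set _) :=
      fun {q} hqF hq => by
        refine Subgroup.mem_centralizer_singleton_iff.2 ?_
        have e : (⟨k * q * k⁻¹, hq⟩ : C) * t = t * ⟨k * q * k⁻¹, hq⟩ := Subtype.ext (by
          show k * q * k⁻¹ * (g * z * g⁻¹) = g * z * g⁻¹ * (k * q * k⁻¹)
          rw [← hkz]
          exact ((d.fr.es.comm q hqF.1).map (MulAut.conj k).toMonoidHom).eq)
        rw [← QuotientGroup.mk_mul, ← QuotientGroup.mk_mul, e]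
    rintro w (rfl | rfl)
    · exact hcomm hxF _
    · exact hcomm hyF _

/-- The involutions centralising an element of the first kind are conjugates of `z`. -/
theorem rt_invol {c : G} (hc : RT z c) {t : G} (ht : orderOf t = 2) (hct : Commute c t) : IsConj z t := by
  obtain ⟨hc5, t₀, ht₀, hct₀⟩ := hc
  obtain ⟨e⟩ := hf.dihedral_at d hc5 ht₀ hct₀
  have hN := cycN_le c
  have h5 := cycN_card c hc5
  set C := Subgroup.centralizer ({c} : Set G) with hC
  set T₀ : C := ⟨t₀, _⟩ with hT₀
  set T : C := ⟨t, Subgroup.mem_centralizer_singleton_iff.2 hct.symm.eq⟩ with hT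
  have ho₀ : orderOf T₀ = 2 := by
    rw [hT₀, Subgroup.orderOf_mk]
    exact invol_iff.2 (sq_of_isConj' d ht₀)
  have hq₀ := invol_mk hN h5 ho₀
  have hq := invol_mk hN h5 (show orderOf T = 2 by rw [hT, Subgroup.orderOf_mk]; exact ht)
  have : Fact (Nat.Prime 2) := ⟨Nat.prime_two⟩
  obtain ⟨S, hS⟩ := DihedralCentralizer.exists_sylow hq₀ e
  obtain ⟨S', hS'⟩ := (IsPGroup.of_card (n := 1) (by rw [Nat.card_zpowers, hq, pow_one]) :
    IsPGroup 2 (Subgroup.zpowers (T : C ⧸ cycN c))).exists_le_sylow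
  obtain ⟨m, hm⟩ := MulAction.exists_smul_eq (C ⧸ cycN c) S S'
  have hmem := hS' (Subgroup.mem_zpowers (T : C ⧸ cycN c))
  rw [← hm, Sylow.coe_subgroup_smul, hS] at hmem
  obtain ⟨w, hw, hwe⟩ := hmem
  have hwo : orderOf w = 2 := by
    have := hq
    rw [← hwe] at this
    change orderOf (m * w * m⁻¹) = 2 at this
    rwa [orderOf_conj_eq] at this
  obtain ⟨W, hW, rfl⟩ := invol_lift h5 hwo
  obtain ⟨M, rfl⟩ := QuotientGroup.mk_surjective m
  have hTW : T = M * W * M⁻¹ := invol_inj hN h5 (by rw [hT, Subgroup.orderOf_mk]; exact ht)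
    (by rw [orderOf_conj_eq]; exact hW) (by rw [← hwe]; rfl)
  have hWz : IsConj z (W : G) := by
    have hWt : Commute (W : G) t₀ := by
      rw [cent_eq hN h5 ho₀] at hw
      obtain ⟨v, hv, hve⟩ := hw
      have hvt := Subgroup.mem_centralizer_singleton_iff.1 hv
      have hvw : W⁻¹ * v ∈ cycN c := QuotientGroup.eq.1 hve.symm
      have h' : Commute (v⁻¹ * W) T₀ := by
        have := Subgroup.mem_center_iff.1 (hN (inv_mem hvw)) T₀
        rw [mul_inv_rev, inv_inv] at this
        exact this.symm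
      have := (show Commute v T₀ from hvt).mul_left h'
      rw [mul_inv_cancel_left] at this
      exact congrArg Subtype.val this.eq
    obtain ⟨g, hg⟩ := isConj_iff.1 ht₀
    have hW' : Commute (g⁻¹ * W * g) z := by
      rw [← hg] at hWt
      have := hWt.map (MulAut.conj g⁻¹).toMonoidHom
      simpa [mul_assoc] using this
    have hc' : Commute (g⁻¹ * c * g) z := by
      rw [← hg] at hct₀
      have := hct₀.map (MulAut.conj g⁻¹).toMonoidHom
      simpa [mul_assoc] using this
    obtain ⟨h, hh, j, hj⟩ := hf.conj_power d (by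
      have := orderOf_conj_eq g⁻¹ c
      rw [inv_inv] at this
      rw [this, hc5]) hc'
    have hWc : Commute (g⁻¹ * W * g) (g⁻¹ * c * g) := by
      have := (show Commute (W : G) c from Subgroup.mem_centralizer_singleton_iff.1 W.2).map
        (MulAut.conj g⁻¹).toMonoidHom
      simpa [mul_assoc] using this
    rw [hj] at hWc
    set u := h⁻¹ * (g⁻¹ * W * g) * h with hu
    have huz : Commute u z := (hh.inv_left.mul_left hW').mul_left hh
    have huj : Commute u (f ^ j) := by
      have := hWc.map (MulAut.conj h⁻¹).toMonoidHom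
      simpa [hu, mul_assoc] using this
    have huf : Commute u f := by
      have hne : f ^ j ≠ 1 := fun e => by
        rw [e, mul_one, mul_inv_cancel] at hj
        have := orderOf_conj_eq g⁻¹ c
        rw [inv_inv, hj, orderOf_one, hc5] at this
        norm_num at this
      have h5j : orderOf (f ^ j) = 5 := by
        have : Fact (Nat.Prime 5) := ⟨by norm_num⟩
        exact orderOf_eq_prime (by rw [← pow_mul, mul_comm, pow_mul, ← hf.ord, pow_orderOf_eq_one, one_pow]) hne
      have hzp : Subgroup.zpowers (f ^ j) = Subgroup.zpowers f :=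
        Subgroup.eq_of_le_of_card_ge (Subgroup.zpowers_le.2 (pow_mem (Subgroup.mem_zpowers f) j))
          (by rw [Nat.card_zpowers, Nat.card_zpowers, h5j, hf.ord])
      obtain ⟨i, hi⟩ := mem_powers_iff_mem_zpowers.2 (hzp ▸ Subgroup.mem_zpowers f)
      rw [← hi]
      exact huj.pow_right i
    obtain ⟨l, -, hlQ, -⟩ := hf.cent d huz huf
    have hWo : orderOf (W : G) = 2 := by rw [Subgroup.orderOf_coe]; exact hW
    have hu' : IsConj (W : G) u := isConj_iff.2 ⟨h⁻¹ * g⁻¹, by rw [hu]; group⟩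
    have huo : orderOf u = 2 := by
      obtain ⟨r, hr⟩ := isConj_iff.1 hu'
      rw [← hr, orderOf_conj_eq]; exact hWo
    have huQ : u ∈ Q := by
      have h2 : u * f ^ l * (u * f ^ l) = f ^ (2 * l) := by
        rw [show u * f ^ l * (u * f ^ l) = u * (f ^ l * u) * f ^ l by group, ← (huf.pow_right l).eq,
          ← mul_assoc, invol_mul_self huo, one_mul, two_mul, pow_add]
      rw [d.fr.sq _ hlQ] at h2
      have h20 : f ^ (2 * l) = 1 := by
        have hp : ∀ b, (pw z b) * pw z b = 1 := fun b => by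
          cases b
          · exact one_mul 1
          · exact d.fr.es.sq
        have e := hp (qn (co (u * f ^ l)))
        rw [h2, ← pow_add] at e
        have h1 : f ^ (5 * l) = 1 := by rw [pow_mul, ← hf.ord, pow_orderOf_eq_one, one_pow]
        have h3 : f ^ (5 * l) = f ^ l * f ^ (2 * l + 2 * l) := by rw [← pow_add]; congr 1; ring
        rw [h1, e, mul_one] at h3
        rw [two_mul, pow_add, ← h3, one_mul]
      have hl1 : f ^ l = 1 := by
        calc f ^ l = f ^ (2 * l) * f ^ (2 * l) * f ^ l := by rw [h20, one_mul, one_mul]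
          _ = (f ^ 5) ^ l := by rw [← pow_add, ← pow_add, ← pow_mul]; congr 1; ring
          _ = 1 := by rw [← hf.ord, pow_orderOf_eq_one, one_pow]
      rw [hl1, mul_one] at hlQ
      exact hlQ
    exact (d.isConj_Q huQ huo).trans hu'.symm
  have e : (T : G) = M * W * (M : G)⁻¹ := by rw [hTW]; rfl
  exact hWz.trans (isConj_iff.2 ⟨(M : G), e.symm⟩)
where
  sq_of_isConj' {u : G} (d : Duo z Q co ac x n) (h : IsConj z u) : u * u = 1 ∧ u ≠ 1 := by
    obtain ⟨g, rfl⟩ := isConj_iff.1 h
    exact invol_iff.1 (by rw [orderOf_conj_eq]; exact d.fr.ord)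

theorem rt_wt_disjoint {c : G} (hR : RT z c) (hW : WT z c) : False := by
  obtain ⟨-, v, hv, hcv⟩ := hW
  exact hv.ne (hf.rt_invol d hR hv.ord hcv)

/-- The centraliser of an element of the first kind: `C(c)/⟨c⟩` is `A₆`. -/
theorem rt_cent (hB : FiveB z) {c : G} (hc : RT z c) : Cent5 c 45 := by
  obtain ⟨hc5, t₀, ht₀, hct₀⟩ := id hc
  have hN := cycN_le c
  have h5 := cycN_card c hc5
  refine cent5_of c hc5 ?_
  have ho₀ : orderOf t₀ = 2 := by
    obtain ⟨g, rfl⟩ := isConj_iff.1 ht₀
    rw [orderOf_conj_eq]; exact d.fr.ord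
  rcases of_dihedral _ (invol_mk hN h5 (show orderOf (⟨t₀, Subgroup.mem_centralizer_singleton_iff.2 hct₀.symm.eq⟩ :
      ↥(Subgroup.centralizer ({c} : Set G))) = 2 by rw [Subgroup.orderOf_mk]; exact ho₀)) (fun u hu => by
    obtain ⟨⟨t, htm⟩, ht, rfl⟩ := invol_lift h5 hu
    rw [Subgroup.orderOf_mk] at ht
    have htc : Commute c t := (Subgroup.mem_centralizer_singleton_iff.1 htm).symm
    exact hf.dihedral_at d hc5 (hf.rt_invol d hc ht htc) htc) with h | h
  · exact h
  · exfalso
    -- then `⟨c⟩` would be a Sylow subgroup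
    have : Fact (Nat.Prime 5) := ⟨by norm_num⟩
    have hnd : ¬ 25 ∣ Nat.card G := fun hd => by
      have := dvd_cent hc5 hd
      rw [card_mul h5, h] at this
      norm_num at this
    obtain ⟨v, f', hv, hf', hfv⟩ := hB.exists_pair
    have hsyl : ∀ a : G, orderOf a = 5 → ∃ S : Sylow 5 G, (S : Subgroup G) = Subgroup.zpowers a := by
      intro a ha
      obtain ⟨S, hS⟩ := (IsPGroup.of_card (n := 1) (by rw [Nat.card_zpowers, ha, pow_one]) :
        IsPGroup 5 (Subgroup.zpowers a)).exists_le_sylow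
      refine ⟨S, (Subgroup.eq_of_le_of_card_ge hS ?_).symm⟩
      obtain ⟨m, hm⟩ := S.2.exists_card_eq
      rw [hm, Nat.card_zpowers, ha]
      rcases m with _ | _ | m
      · norm_num
      · norm_num
      · exact absurd (dvd_trans (⟨5 ^ m, by rw [hm]; ring⟩ : 25 ∣ Nat.card (S : Subgroup G))
          (Subgroup.card_subgroup_dvd_card _)) hnd
    obtain ⟨S, hS⟩ := hsyl c hc5
    obtain ⟨S', hS'⟩ := hsyl f' hf'
    obtain ⟨g, hg⟩ := MulAction.exists_smul_eq G S S'
    have hm : f' ∈ (S' : Subgroup G) := hS' ▸ Subgroup.mem_zpowers f'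
    rw [← hg, Sylow.coe_subgroup_smul, hS] at hm
    obtain ⟨w, hw, hwe⟩ := hm
    obtain ⟨i, rfl⟩ := mem_powers_iff_mem_zpowers.2 hw
    refine hv.ne ((hf.rt_invol d (c := f') ⟨hf', g * t₀ * g⁻¹, ?_, ?_⟩ hv.ord hfv))
    · exact ht₀.trans (isConj_iff.2 ⟨g, rfl⟩)
    · rw [← hwe]
      exact (hct₀.pow_left i).map (MulAut.conj g).toMonoidHom

theorem dvd_card (hB : FiveB z) : 25 ∣ Nat.card G :=
  (hf.rt_cent d hB ⟨hf.ord, z, IsConj.refl z, hf.comm⟩).dvd.trans (Subgroup.card_subgroup_dvd_card _)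

/-- The centraliser of an element of the second kind: `C(c)/⟨c⟩` is `A₅`. -/
theorem wt_cent (hB : FiveB z) {c : G} (hc : WT z c) : Cent5 c 15 := by
  obtain ⟨hc5, v, hv, hcv⟩ := id hc
  have hN := cycN_le c
  have h5 := cycN_card c hc5
  refine cent5_of c hc5 ?_
  have hbt : ∀ t : G, orderOf t = 2 → Commute c t → BT z t := fun t ht hct =>
    ⟨ht, fun e => hf.rt_wt_disjoint d ⟨hc5, t, e, hct⟩ hc⟩
  have hY : ∀ u : ↥(Subgroup.centralizer ({c} : Set G)) ⧸ cycN c, orderOf u = 2 →
      Nat.card (Subgroup.centralizer ({u} : Set _)) = 4 := fun u hu => by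
    obtain ⟨⟨t, htm⟩, ht, rfl⟩ := invol_lift h5 hu
    have e := cent_card hN h5 ht
    rw [Subgroup.orderOf_mk] at ht
    have htc : Commute c t := (Subgroup.mem_centralizer_singleton_iff.1 htm).symm
    rw [card_cent_sub c, hB.card t c (hbt t ht htc) hc5 htc] at e
    omega
  refine of_four _ (invol_mk hN h5 (show orderOf (⟨v, Subgroup.mem_centralizer_singleton_iff.2 hcv.symm.eq⟩ :
      ↥(Subgroup.centralizer ({c} : Set G))) = 2 by rw [Subgroup.orderOf_mk]; exact hv.ord)) hY ?_ ?_
  · intro u hu w hw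
    obtain ⟨T, ht, rfl⟩ := invol_lift h5 hu
    have h4 := hY _ (invol_mk hN h5 ht)
    have hw4 : w ^ 4 = 1 := by
      have := pow_card_eq_one' (G := Subgroup.centralizer ({(T : _ ⧸ cycN c)} : Set _)) (x := ⟨w, hw⟩)
      rw [h4] at this
      exact congrArg Subtype.val this
    rw [cent_eq hN h5 ht] at hw
    obtain ⟨W, hW, rfl⟩ := hw
    have ht' : orderOf (T : G) = 2 := by rw [Subgroup.orderOf_coe]; exact ht
    have hTc : Commute c (T : G) := (Subgroup.mem_centralizer_singleton_iff.1 T.2).symm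
    have h10 := hB.exp (T : G) c (hbt _ ht' hTc) hc5 hTc (W : G) (mem_pair.2
      ⟨congrArg Subtype.val (Subgroup.mem_centralizer_singleton_iff.1 hW),
        Subgroup.mem_centralizer_singleton_iff.1 W.2⟩)
    have h10' : (W : ↥(Subgroup.centralizer ({c} : Set G))) ^ 10 = 1 := Subtype.ext (by simpa using h10)
    have := congrArg (QuotientGroup.mk' (cycN c)) h10'
    rw [map_pow, map_one, show (10 : ℕ) = 4 * 2 + 2 by rfl, pow_add, pow_mul, hw4, one_pow, one_mul,
      pow_two] at this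
    exact this
  · have := dvd_cent hc5 (hf.dvd_card d hB)
    rw [card_mul h5] at this
    omega

end Gen5

end Cfsg.Agent.Lib.SuzFive11
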