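import Cfsg.Agent.Lib.SuzFive11.Plane

/-!
# Suzuki type: the six lines of the Sylow subgroup for the prime five

Owner: helper11.
-/

set_option autoImplicit false

namespace Cfsg.Agent.Lib.SuzFive11

open Cfsg.Agent.Lib.Involutions.Basic
open Cfsg.Agent.Lib.SuzSeven52 (BT)
open Cfsg.Agent.Lib.SuzType52 (cfix)

variable {G : Type*} [Group G] [Finite G] {z : G}

theorem cr_line : ∀ w : V5, ∀ i : ZMod 5, cr w (i, 1) = 0 → w = sm w.2 (i, 1) := by decide +kernel

theorem split_fst : ∀ i : ZMod 5, i ≠ 0 → ∃ p q : ZMod 5, ((1, 0) : V5) = sm p (i, 1) + sm q (0, 1) := by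
  decide +kernel

theorem sm_snd : ∀ k i : ZMod 5, ((0, 1) : V5) = sm k (i, 1) → i = 0 := by decide +kernel

theorem self_neg : ∀ i : ZMod 5, -i = i → i = 0 := by decide +kernel

theorem rep_ne_zero : ∀ o : Option (ZMod 5), rep o ≠ 0 := by decide +kernel

theorem dmat_line : ∀ k : ZMod 5, ∀ v : V5, ap (dmat k k) v = sm k v := by decide +kernel

omit [Finite G] in
theorem RT.conj {c : G} (h : RT z c) (g : G) : RT z (g * c * g⁻¹) := by
  obtain ⟨hc, t, ht, hct⟩ := h
  exact ⟨by rw [orderOf_conj_eq, hc], g * t * g⁻¹, ht.trans (isConj_iff.2 ⟨g, rfl⟩),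
    hct.map (MulAut.conj g).toMonoidHom⟩

omit [Finite G] in
theorem WT.conj {c : G} (h : WT z c) (g : G) : WT z (g * c * g⁻¹) := by
  obtain ⟨hc, t, ht, hct⟩ := h
  exact ⟨by rw [orderOf_conj_eq, hc], g * t * g⁻¹,
    ⟨by rw [orderOf_conj_eq, ht.ord], fun e => ht.ne (e.trans (isConj_iff.2 ⟨g, rfl⟩).symm)⟩,
    hct.map (MulAut.conj g).toMonoidHom⟩

omit [Finite G] in
theorem gen_order {c c' : G} (e : Subgroup.zpowers c = Subgroup.zpowers c') : orderOf c' = orderOf c := by
  rw [← Nat.card_zpowers, ← Nat.card_zpowers c, e]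

omit [Finite G] in
theorem gen_commute {c c' t : G} (e : Subgroup.zpowers c = Subgroup.zpowers c') (h : Commute c t) :
    Commute c' t := by
  obtain ⟨i, rfl⟩ := Subgroup.mem_zpowers_iff.1 (e ▸ Subgroup.mem_zpowers c')
  exact h.zpow_left i

omit [Finite G] in
theorem RT.of_gen {c c' : G} (h : RT z c) (e : Subgroup.zpowers c = Subgroup.zpowers c') : RT z c' := by
  obtain ⟨hc, t, ht, hct⟩ := h
  exact ⟨(gen_order e).trans hc, t, ht, gen_commute e hct⟩

omit [Finite G] in
theorem WT.of_gen {c c' : G} (h : WT z c) (e : Subgroup.zpowers c = Subgroup.zpowers c') : WT z c' := by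
  obtain ⟨hc, t, ht, hct⟩ := h
  exact ⟨(gen_order e).trans hc, t, ht, gen_commute e hct⟩

/-- A line of the plane. -/
def line (f a : G) (o : Option (ZMod 5)) : Subgroup G := Subgroup.zpowers (el f a (rep o))

namespace Base

variable {f a y : G} (b : Base z f a y) {n : G} {M : M5}
include b

omit [Finite G] in
theorem el_npow (v : V5) (k : ℕ) : el f a v ^ k = el f a (sm (k : ZMod 5) v) := by
  rw [b.el_sm, ZMod.val_natCast]
  refine (pow_eq_pow_mod k (b.el_pow_five v))

omit [Finite G] in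
theorem line_card (o : Option (ZMod 5)) : Nat.card (line f a o) = 5 := by
  rw [line, Nat.card_zpowers, b.el_order (rep_ne_zero o)]

omit [Finite G] in
theorem line_le (o : Option (ZMod 5)) : line f a o ≤ plane f a := Subgroup.zpowers_le.2 (b.el_mem _)

theorem mem_line {v : V5} {o : Option (ZMod 5)} (hv : el f a v ∈ line f a o) : ∃ k, v = sm k (rep o) := by
  obtain ⟨k, hk⟩ := mem_powers_iff_mem_zpowers.2 hv
  exact ⟨(k : ZMod 5), b.el_inj ((b.el_npow _ k).symm.trans hk).symm⟩

theorem line_inj : Function.Injective (line f a) := fun o o' e => by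
  obtain ⟨k, hk⟩ := b.mem_line (o := o') (v := rep o) (e ▸ (Subgroup.mem_zpowers _ : el f a (rep o) ∈ line f a o))
  exact rep_unique o o' k hk

omit [Finite G] in
theorem ap_ne_zero (hM : Acts f a n M) {v : V5} (hv : v ≠ 0) : ap M v ≠ 0 := fun e => hv (b.el_eq_one (by
  have := b.apply hM v
  rw [e, b.el_zero] at this
  exact conj_eq_one_iff.1 this))

omit [Finite G] in
theorem map_line (hM : Acts f a n M) {o o' : Option (ZMod 5)} {s : ZMod 5} (hs : s ≠ 0)
    (e : ap M (rep o) = sm s (rep o')) : (line f a o).map (MulAut.conj n).toMonoidHom = line f a o' := by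
  rw [line, MonoidHom.map_zpowers]
  show Subgroup.zpowers (n * el f a (rep o) * n⁻¹) = _
  rw [b.apply hM, e, b.el_zpowers hs, line]

omit [Finite G] in
theorem rt_move (hM : Acts f a n M) {o o' : Option (ZMod 5)} {s : ZMod 5} (hs : s ≠ 0)
    (e : ap M (rep o) = sm s (rep o')) :
    RT z (el f a (rep o)) → RT z (el f a (rep o')) := fun hR => by
  have := hR.conj n
  rw [b.apply hM, e] at this
  exact this.of_gen (b.el_zpowers hs _)

omit [Finite G] in
theorem wt_move (hM : Acts f a n M) {o o' : Option (ZMod 5)} {s : ZMod 5} (hs : s ≠ 0)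
    (e : ap M (rep o) = sm s (rep o')) :
    WT z (el f a (rep o)) → WT z (el f a (rep o')) := fun hR => by
  have := hR.conj n
  rw [b.apply hM, e] at this
  exact this.of_gen (b.el_zpowers hs _)

variable (h : Data z)
include h

theorem line_of {L : Subgroup G} (hL : L ≤ plane f a) (h5 : Nat.card L = 5) : ∃ o, L = line f a o := by
  have : Fact (Nat.Prime 5) := ⟨by norm_num⟩
  obtain ⟨c, hc⟩ := exists_prime_orderOf_dvd_card' (G := L) 5 (by rw [h5])
  obtain ⟨v, hv⟩ := b.el_surj h (hL c.2)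
  have hv0 : v ≠ 0 := fun e => by
    rw [e, b.el_zero] at hv
    rw [← Subgroup.orderOf_coe, ← hv, orderOf_one] at hc
    norm_num at hc
  obtain ⟨o, s, hs, rfl⟩ := rep_cover v hv0
  refine ⟨o, (Subgroup.eq_of_le_of_card_ge ?_ (by rw [h5, b.line_card])).symm⟩
  rw [line, ← b.el_zpowers hs, hv]
  exact Subgroup.zpowers_le.2 c.2

/-- The reflection of a typed element outside the axes. -/
theorem exists_refl {i : ZMod 5} (hi : i ≠ 0) (hT : RT z (el f a (i, 1)) ∨ WT z (el f a (i, 1))) :
    ∃ r M k, orderOf r = 2 ∧ Acts f a r M ∧ ap M (i, 1) = (i, 1) ∧ ap M (0, 1) + (0, 1) = sm k (i, 1) := by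
  set c := el f a (i, 1) with hc
  have hna : a ∉ Subgroup.zpowers c := fun hm => by
    obtain ⟨k, hk⟩ := b.mem_line (o := some i) (v := (0, 1)) (by rw [b.el_snd]; exact hm)
    exact hi (sm_snd k i hk)
  have hca : Commute c a := by rw [hc]; nth_rw 2 [← b.el_snd]; exact b.el_commute _ _
  obtain ⟨r, hr, hcr, hra⟩ : ∃ r, orderOf r = 2 ∧ Commute c r ∧ r * a * r⁻¹ * a ∈ Subgroup.zpowers c := by
    rcases hT with hT | hT
    · exact (h.rt c hT).invert a b.ha hca hna
    · exact (h.wt c hT).invert a b.ha hca hna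
  obtain ⟨j, hj⟩ := mem_powers_iff_mem_zpowers.2 hra
  set k : ZMod 5 := (j : ZMod 5)
  have hk : el f a (sm k (i, 1)) = r * a * r⁻¹ * a := by rw [← b.el_npow, ← hc]; exact hj
  have ha' : r * a * r⁻¹ = el f a (sm k (i, 1) + sm 4 (0, 1)) := by
    rw [b.el_add, hk, b.el_sm, b.el_snd, show (4 : ZMod 5).val = 4 from rfl]
    rw [mul_assoc _ a (a ^ 4), ← pow_succ' a 4,
      show 4 + 1 = 5 by rfl, show a ^ 5 = 1 from b.ha ▸ pow_orderOf_eq_one a, mul_one]
  obtain ⟨p, q, hpq⟩ := split_fst i hi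
  have hrc : r * c * r⁻¹ = c := by rw [← hcr.eq, mul_inv_cancel_right]
  have hf' : r * f * r⁻¹ = el f a (sm p (i, 1) + sm q (sm k (i, 1) + sm 4 (0, 1))) := by
    conv_lhs => rw [← b.el_fst, hpq]
    rw [b.el_add, b.el_add, b.el_sm, b.el_sm, b.el_sm q, ← hc, b.el_snd,
      show r * (c ^ p.val * a ^ q.val) * r⁻¹ = r * c ^ p.val * r⁻¹ * (r * a ^ q.val * r⁻¹) by group,
      ← conj_pow, ← conj_pow, hrc, ha']
  have hr' : Acts f a r (sm p (i, 1) + sm q (sm k (i, 1) + sm 4 (0, 1)), sm k (i, 1) + sm 4 (0, 1)) := ⟨hf', ha'⟩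
  refine ⟨r, _, k, hr, hr', b.el_inj ((b.apply hr' (i, 1)).symm.trans hrc), ?_⟩
  show ap _ (0, 1) + (0, 1) = sm k (i, 1)
  simp only [ap, sm, Prod.mk_add_mk, Prod.ext_iff]
  constructor <;> ring_nf
  all_goals simp [show (5 : ZMod 5) = 0 from rfl]

end Base

namespace Full

variable {f a y g t : G} {q : ZMod 5} (e : Full z f a y g t q) (h : Data z)
include e h

theorem exists_sylow : ∃ S : Sylow 5 G, (S : Subgroup G) = plane f a := by
  have : Fact (Nat.Prime 5) := ⟨by norm_num⟩
  have hc := e.toBase.card_plane h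
  obtain ⟨S, hS⟩ := (IsPGroup.of_card (n := 2) (by rw [hc]; norm_num) : IsPGroup 5 (plane f a)).exists_le_sylow
  refine ⟨S, (Subgroup.eq_of_le_of_card_ge hS ?_).symm⟩
  obtain ⟨m, hm⟩ := S.2.exists_card_eq
  rw [hc, hm]
  by_contra hlt
  refine e.not_dvd_card h ((show 125 ∣ Nat.card (S : Subgroup G) from ?_).trans (Subgroup.card_subgroup_dvd_card _))
  rw [hm, show (125 : ℕ) = 5 ^ 3 by norm_num]
  refine pow_dvd_pow 5 ?_
  by_contra hm3
  exact hlt (Nat.pow_le_pow_right (by norm_num) (show m ≤ 2 by omega))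

/-- Every subgroup of order five is conjugate to a line. -/
theorem conj_line {C : Subgroup G} (hC : Nat.card C = 5) :
    ∃ g' : G, ∃ o, C.map (MulAut.conj g').toMonoidHom = line f a o := by
  have : Fact (Nat.Prime 5) := ⟨by norm_num⟩
  obtain ⟨S, hS⟩ := e.exists_sylow h
  obtain ⟨T, hT⟩ := (IsPGroup.of_card (n := 1) (by rw [hC, pow_one]) : IsPGroup 5 C).exists_le_sylow
  obtain ⟨g', hg'⟩ := MulAction.exists_smul_eq G T S
  refine ⟨g', e.toBase.line_of h ?_ ?_⟩
  · rw [← hS, ← hg', Sylow.coe_subgroup_smul]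
    exact Subgroup.map_mono hT
  · rw [Subgroup.card_map_of_injective (MulAut.conj g').injective, hC]

theorem exists_wline : ∃ o, WT z (el f a (rep o)) := by
  obtain ⟨c, hc⟩ := h.wex
  obtain ⟨g', o, ho⟩ := e.conj_line h (C := Subgroup.zpowers c) (by rw [Nat.card_zpowers, hc.1])
  refine ⟨o, (hc.conj g').of_gen ?_⟩
  rw [MonoidHom.map_zpowers] at ho
  exact ho

/-- The lines of the second type: the second axis and two opposite lines. -/
theorem wset : ∃ m : ZMod 5, m ≠ 0 ∧
    ∀ o, WT z (el f a (rep o)) ↔ o = some 0 ∨ o = some m ∨ o = some (-m) := by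
  classical
  have b := e.toBase
  have hY := b.y_acts h
  set sR := Finset.univ.filter fun o => RT z (el f a (rep o)) with hsR
  set sW := Finset.univ.filter fun o => WT z (el f a (rep o)) with hsW
  have hdis : Disjoint sR sW := by
    rw [Finset.disjoint_left]
    intro o hR hW
    exact h.disj (Finset.mem_filter.1 hR).2 (Finset.mem_filter.1 hW).2
  have hn : none ∈ sR := Finset.mem_filter.2 ⟨Finset.mem_univ _, by
    show RT z (el f a (1, 0)); rw [b.el_fst]; exact b.rf⟩
  have hsum : sR.card + sW.card ≤ 6 := by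
    rw [← Finset.card_union_of_disjoint hdis]
    exact (Finset.card_le_univ _).trans (by simp)
  have hWne : sW.Nonempty := by
    obtain ⟨o, ho⟩ := e.exists_wline h
    exact ⟨o, Finset.mem_filter.2 ⟨Finset.mem_univ _, ho⟩⟩
  have hR1 : 1 ≤ sR.card := Finset.card_pos.2 ⟨none, hn⟩
  have hW1 : 1 ≤ sW.card := Finset.card_pos.2 hWne
  have hneg : ∀ i, some i ∈ sW → some (-i) ∈ sW := fun i hi => by
    obtain ⟨s, hs, he⟩ := y_rep i
    exact Finset.mem_filter.2 ⟨Finset.mem_univ _, b.wt_move hY hs he (Finset.mem_filter.1 hi).2⟩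
  -- not five of one type
  have hR5 : sR.card ≠ 5 := fun h5 => by
    obtain ⟨o, ho⟩ := Finset.card_eq_one.1 (show sW.card = 1 by omega)
    obtain ⟨j, rfl⟩ : ∃ j, o = some j := by
      cases o with
      | none => exact absurd (ho ▸ Finset.mem_singleton_self none) (Finset.disjoint_left.1 hdis hn)
      | some j => exact ⟨j, rfl⟩
    have hj0 : j = 0 := self_neg j (Option.some.inj (Finset.mem_singleton.1 (ho ▸ hneg j (ho ▸ Finset.mem_singleton_self _))))
    subst hj0
    have h1 : some 1 ∈ sR := by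
      have huniv : sR ∪ sW = Finset.univ := Finset.eq_univ_of_card _ (by
        rw [Finset.card_union_of_disjoint hdis]; simp; omega)
      have := huniv.ge (Finset.mem_univ (some (1 : ZMod 5)))
      rcases Finset.mem_union.1 this with h' | h'
      · exact h'
      · rw [ho, Finset.mem_singleton] at h'
        exact absurd (Option.some.inj h') (by decide)
    obtain ⟨r, M, k, -, hr, hfix, hk⟩ := b.exists_refl h (i := 1) (by decide) (Or.inl (Finset.mem_filter.1 h1).2)
    obtain ⟨o', s, hs, hs'⟩ := rep_cover (ap M (rep (some 0))) (b.ap_ne_zero hr (rep_ne_zero _))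
    have ho' : o' ∈ sW := Finset.mem_filter.2 ⟨Finset.mem_univ _, b.wt_move hr hs hs'
      (Finset.mem_filter.1 (show some 0 ∈ sW by rw [ho]; exact Finset.mem_singleton_self _)).2⟩
    rw [ho, Finset.mem_singleton] at ho'
    subst ho'
    obtain ⟨h5', hne⟩ := (refl_axes M 1 k (by decide) hfix hk).1 (by
      show (ap M (rep (some 0))).1 = 0
      rw [hs']; exact (sm_fst_zero s).1)
    exact hne (b.acts_unique (b.acts_mul hY hr) (b.acts_one5.2 (e.no_unip h (b.acts_mul hY hr) h5')))
  have hW5 : sW.card ≠ 5 := fun h5 => by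
    obtain ⟨o, ho⟩ := Finset.card_eq_one.1 (show sR.card = 1 by omega)
    obtain rfl : none = o := Finset.mem_singleton.1 (ho ▸ hn)
    have h1 : some 1 ∈ sW := by
      have huniv : sR ∪ sW = Finset.univ := Finset.eq_univ_of_card _ (by
        rw [Finset.card_union_of_disjoint hdis]; simp; omega)
      have := huniv.ge (Finset.mem_univ (some (1 : ZMod 5)))
      rcases Finset.mem_union.1 this with h' | h'
      · rw [ho, Finset.mem_singleton] at h'; exact absurd h' (Option.some_ne_none _)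
      · exact h'
    obtain ⟨r, M, k, -, hr, hfix, hk⟩ := b.exists_refl h (i := 1) (by decide) (Or.inr (Finset.mem_filter.1 h1).2)
    obtain ⟨o', s, hs, hs'⟩ := rep_cover (ap M (rep none)) (b.ap_ne_zero hr (rep_ne_zero _))
    have ho' : o' ∈ sR := Finset.mem_filter.2 ⟨Finset.mem_univ _, b.rt_move hr hs hs' (Finset.mem_filter.1 hn).2⟩
    rw [ho, Finset.mem_singleton] at ho'
    subst ho'
    obtain ⟨h5', hne⟩ := (refl_axes M 1 k (by decide) hfix hk).2 (by
      show (ap M (rep none)).2 = 0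
      rw [hs']; exact (sm_fst_zero s).2)
    exact hne (b.acts_unique (b.acts_mul e.tacts hr) (b.acts_one5.2 (e.no_unip h (b.acts_mul e.tacts hr) h5')))
  -- the count
  have hinj := b.line_inj
  have hz : ∀ o t, t ∈ cfix {u : G | IsConj z u} (line f a o) ↔ IsConj z t ∧ Commute (el f a (rep o)) t :=
    fun o t => and_congr_right fun _ => by rw [line, Subgroup.zpowers_le, Subgroup.mem_centralizer_singleton_iff]; rfl
  have hb : ∀ o t, t ∈ cfix {u : G | BT z u} (line f a o) ↔ BT z t ∧ Commute (el f a (rep o)) t :=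
    fun o t => and_congr_right fun _ => by rw [line, Subgroup.zpowers_le, Subgroup.mem_centralizer_singleton_iff]; rfl
  have hcount := h.count (plane f a) (b.card_plane h) (fun t ht ht1 => b.not_cent h ht ht1)
    (sR.image (line f a)) (sW.image (line f a)) (Finset.univ.image (line f a))
    (fun L => by
      simp only [Finset.mem_image, Finset.mem_univ, true_and]
      constructor
      · rintro ⟨o, rfl⟩; exact ⟨b.line_le o, b.line_card o⟩
      · rintro ⟨hL, h5⟩; obtain ⟨o, rfl⟩ := b.line_of h hL h5; exact ⟨o, rfl⟩)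
    (Finset.image_subset_image (Finset.subset_univ _)) (Finset.image_subset_image (Finset.subset_univ _))
    (by rw [Finset.card_image_of_injective _ hinj]; omega)
    (by rw [Finset.card_image_of_injective _ hinj]; omega)
    (by
      intro L hL
      obtain ⟨o, ho, rfl⟩ := Finset.mem_image.1 hL
      have hR := (Finset.mem_filter.1 ho).2
      rw [← (h.rt _ hR).invol, ← Nat.card_coe_set_eq]
      exact Nat.card_congr (Equiv.subtypeEquivRight fun t => (hz o t).trans
        ⟨fun ht => ⟨h.ord_of_conj ht.1, ht.2⟩, fun ht => ⟨h.rinv _ hR t ht.1 ht.2, ht.2⟩⟩))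
    (by
      intro L hL hLn
      obtain ⟨o, -, rfl⟩ := Finset.mem_image.1 hL
      refine Set.eq_empty_iff_forall_notMem.2 fun t ht => hLn (Finset.mem_image.2 ⟨o, Finset.mem_filter.2
        ⟨Finset.mem_univ _, b.el_order (rep_ne_zero o), t, ((hz o t).1 ht).1, ((hz o t).1 ht).2⟩, rfl⟩))
    (by
      intro L hL
      obtain ⟨o, ho, rfl⟩ := Finset.mem_image.1 hL
      have hW := (Finset.mem_filter.1 ho).2
      rw [← (h.wt _ hW).invol, ← Nat.card_coe_set_eq]
      exact Nat.card_congr (Equiv.subtypeEquivRight fun t => (hb o t).trans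
        ⟨fun ht => ⟨ht.1.ord, ht.2⟩,
          fun ht => ⟨⟨ht.1, fun e' => h.disj ⟨hW.1, t, e', ht.2⟩ hW⟩, ht.2⟩⟩))
    (by
      intro L hL hLn
      obtain ⟨o, -, rfl⟩ := Finset.mem_image.1 hL
      refine Set.eq_empty_iff_forall_notMem.2 fun t ht => hLn (Finset.mem_image.2 ⟨o, Finset.mem_filter.2
        ⟨Finset.mem_univ _, b.el_order (rep_ne_zero o), t, ((hb o t).1 ht).1, ((hb o t).1 ht).2⟩, rfl⟩))
  rw [Finset.card_image_of_injective _ hinj] at hcount
  have hW3 : sW.card = 3 := by omega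
  -- a symmetric set of three
  set S : Finset (ZMod 5) := Finset.univ.filter fun i => some i ∈ sW with hS
  have hWS : sW = S.image some := by
    ext o
    cases o with
    | none => simpa using Finset.disjoint_left.1 hdis hn
    | some j => simp [hS]
  have hS3 : S.card = 3 := by rw [← hW3, hWS, Finset.card_image_of_injective _ (Option.some_injective _)]
  obtain ⟨m, hm, hSm⟩ := neg_set S (fun i hi => Finset.mem_filter.2 ⟨Finset.mem_univ _,
    hneg i (Finset.mem_filter.1 hi).2⟩) hS3
  refine ⟨m, hm, fun o => ?_⟩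
  have : o ∈ sW ↔ o = some 0 ∨ o = some m ∨ o = some (-m) := by rw [hWS, hSm]; simp
  simpa [hsW] using this

end Full

end Cfsg.Agent.Lib.SuzFive11
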