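import Cfsg.Agent.Lib.SuzType52.Main
import Cfsg.Agent.Lib.SuzSeven52.Types
import Cfsg.Agent.Lib.Involutions.Basic

/-!
# Suzuki type: an element of order five in `C(z)` and its centraliser there

Owner: helper11.
-/

set_option autoImplicit false

namespace Cfsg.Agent.Lib.SuzFive11

open Cfsg.Agent.Lib.SuzType52

/-- An action of order five fixing the hyperbolic plane. -/
def rho (k : ℕ) : ℕ := pr (12, 16) (pr (20, 32) k)

/-- An action conjugating `rho` to its square. -/
def sig (k : ℕ) : ℕ := pr (3, 12) (pr (16, 56) k)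

theorem rho_spec : ∀ k < 64, rho k < 64 ∧ rho (rho (rho (rho (rho k)))) = k := by decide +kernel

theorem rho_four : rho 4 ≠ 4 ∧ rho (rho 4) ≠ 4 ∧ rho (rho (rho 4)) ≠ 4 ∧ rho (rho (rho (rho 4))) ≠ 4 := by
  decide +kernel

theorem rho_fix : ∀ k < 64, (rho k = k ↔ k < 4) := by decide +kernel

theorem rho_orbit : ∀ k : Fin 64, 3 ≤ k.val → qn k.val = false → bn k.val 1 = false → bn k.val 2 = false →
    ∃ i : Fin 5, rho^[i.val] 4 = k.val := by
  decide +kernel

theorem rho_back : ∀ i : Fin 5, rho^[(5 - i.val) % 5] (rho^[i.val] 4) = 4 := by decide +kernel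

theorem rho_orbit_vals : rho 4 = 8 ∧ rho 8 = 28 ∧ rho 28 = 44 ∧ rho 44 = 60 := by decide +kernel

theorem sig_rho : ∀ k < 64, sig (rho k) = rho (rho (sig k)) ∧ sig k < 64 := by decide +kernel

theorem swap_refl : ∀ k < 64, lin 2 1 4 8 16 32 k = refl 3 k := by decide +kernel

variable {G : Type*} [Group G] [Finite G] {z : G} {Q : Subgroup G} {co : G → ℕ} {ac : G → ℕ → ℕ}
  {x n : G}

/-- An element of order five of `C(z)` acting as `rho`. -/
structure Gen5 (z : G) (ac : G → ℕ → ℕ) (f : G) : Prop where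
  comm : Commute f z
  ord : orderOf f = 5
  act : ∀ k < 64, ac f k = rho k

omit [Finite G] in
theorem ac_pow (h : Frame z Q co ac) {c : G} {φ : ℕ → ℕ} (hc : Commute c z)
    (hφ : ∀ k < 64, ac c k = φ k) : ∀ (m k : ℕ), k < 64 → ac (c ^ m) k = φ^[m] k := by
  intro m
  induction m with
  | zero => intro k hk; rw [pow_zero, h.ac_Q (one_mem Q) hk]; rfl
  | succ m ih =>
    intro k hk
    rw [pow_succ, h.ac_mul (hc.pow_left m) hc hk, ih _ (h.ac_lt hc hk), hφ k hk,
      Function.iterate_succ_apply]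

theorem rho_iterate : ∀ m < 5, ∀ k < 64, rho^[m] k = k → m = 0 ∨ k < 4 := by decide +kernel

theorem Gen5.exists (d : Duo z Q co ac x n) : ∃ f, Gen5 z ac f := by
  obtain ⟨c₁, h1, e1⟩ := d.fr.exists_pr (p := (12, 16)) (by decide)
  obtain ⟨c₂, h2, e2⟩ := d.fr.exists_pr (p := (20, 32)) (by decide)
  set c := c₁ * c₂ with hc
  have hcz : Commute c z := h1.mul_left h2
  have hck : ∀ k < 64, ac c k = rho k := fun k hk => by
    rw [hc, d.fr.ac_mul h1 h2 hk, e2 k hk, e1 _ (pr_spec (by decide) hk).1]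
    rfl
  have hQ5 : c ^ 5 ∈ Q := d.fr.faithful _ (hcz.pow_left 5) fun k hk => by
    rw [ac_pow d.fr hcz hck 5 k hk]
    exact (rho_spec k hk).2
  have hQ4 : ∀ q ∈ Q, q ^ 4 = 1 := fun q hq => by
    have e := d.fr.sq q hq
    calc q ^ 4 = q * q * (q * q) := by simp only [pow_succ, pow_zero, one_mul, mul_assoc]
      _ = 1 := by
        rw [e]
        cases qn (co q)
        · exact one_mul 1
        · exact d.fr.es.sq
  have h20 : (c ^ 16) ^ 5 = 1 := by
    rw [← pow_mul, show 16 * 5 = 5 * 4 * 4 by rfl, pow_mul, pow_mul, hQ4 _ hQ5, one_pow]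
  have hact : ∀ k < 64, ac (c ^ 16) k = rho k := fun k hk => by
    rw [ac_pow d.fr hcz hck 16 k hk]
    have hk' := (rho_spec k hk).1
    calc rho^[16] k = rho^[5] (rho^[5] (rho^[5] (rho k))) := by
          simp only [← Function.iterate_succ_apply, ← Function.iterate_add_apply]
      _ = rho k := by
        simp only [Function.iterate_succ_apply', Function.iterate_zero_apply]
        simp only [(rho_spec _ hk').2]
  refine ⟨c ^ 16, hcz.pow_left _, ?_, hact⟩
  have : Fact (Nat.Prime 5) := ⟨by norm_num⟩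
  refine orderOf_eq_prime h20 fun e => ?_
  have := hact 4 (by norm_num)
  rw [e, d.fr.ac_Q (one_mem Q) (by norm_num)] at this
  exact rho_four.1 this.symm

/-- The elements of `Q` over the fixed plane. -/
def InF (Q : Subgroup G) (co : G → ℕ) (q : G) : Prop := q ∈ Q ∧ co q < 4

namespace Gen5

variable (d : Duo z Q co ac x n) {f : G} (hf : Gen5 z ac f)
include d hf

theorem commute_inF {q : G} (hq : InF Q co q) : Commute q f := by
  have hf' := d.fr.norm f hf.comm q hq.1
  rcases d.fr.co_eq hq.1 hf' (by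
    rw [d.fr.conj f hf.comm q hq.1, hf.act _ (d.fr.co_lt q hq.1), (rho_fix _ (d.fr.co_lt q hq.1)).2 hq.2])
    with e | e
  · exact (mul_inv_eq_iff_eq_mul.1 e).symm
  · exfalso
    have h2 : ∀ m : ℕ, f ^ m * q * (f ^ m)⁻¹ = q * z ^ m := by
      intro m
      induction m with
      | zero => simp
      | succ m ih =>
        calc f ^ (m + 1) * q * (f ^ (m + 1))⁻¹ = f ^ m * (f * q * f⁻¹) * (f ^ m)⁻¹ := by
              rw [pow_succ]; group
          _ = f ^ m * q * (f ^ m)⁻¹ * (f ^ m * z * (f ^ m)⁻¹) := by rw [e]; group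
          _ = q * z ^ (m + 1) := by
            rw [ih, mul_inv_eq_iff_eq_mul.2 (hf.comm.pow_left m).eq, mul_assoc, pow_succ]
    have := h2 5
    rw [← hf.ord, pow_orderOf_eq_one, hf.ord, one_mul, inv_one, mul_one] at this
    have hz5 : z ^ 5 = z := by
      rw [show (5 : ℕ) = 2 * 2 + 1 by rfl, pow_succ z (2 * 2), pow_mul z 2 2, pow_two z, d.fr.es.sq,
        one_pow, one_mul]
    rw [hz5] at this
    exact d.fr.es.ne (left_eq_mul.1 this)

/-- The centraliser of `f` in `C(z)`. -/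
theorem cent {g : G} (hgz : Commute g z) (hgf : Commute g f) :
    ∃ i < 5, InF Q co (g * f ^ i) := by
  have hfix : ∀ k < 4, ac g k < 4 := fun k hk => by
    have hk' : k < 64 := by omega
    refine (rho_fix _ (d.fr.ac_lt hgz hk')).1 ?_
    rw [← hf.act _ (d.fr.ac_lt hgz hk'), ← d.fr.ac_mul hf.comm hgz hk', ← hgf.eq,
      d.fr.ac_mul hgz hf.comm hk', hf.act k hk', (rho_fix k hk').2 hk]
  have hg12 : ∀ k ∈ [1, 2], ac g k ∈ [1, 2] := fun k hk => by
    have hk' : k < 4 ∧ k ≠ 0 ∧ qn k = false := by revert k; decide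
    have h1 := hfix k hk'.1
    have hq := d.fr.ac_qn hgz (show k < 64 by omega)
    rw [hk'.2.2] at hq
    have h0 : ac g k ≠ 0 := fun e => hk'.2.1 (by
      rw [← d.fr.ac_inv hgz (show k < 64 by omega), e, (d.fr.iso hgz.inv_left).zero])
    have key : ∀ j < 4, j ≠ 0 → qn j = false → j ∈ [1, 2] := by decide
    exact key _ h1 h0 hq
  have h4 := d.fr.ac_lt hgz (show 4 < 64 by norm_num)
  obtain ⟨i, hi, hi4⟩ : ∃ i < 5, rho^[i] 4 = ac g 4 := by
    suffices hh : ∃ i : Fin 5, rho^[i.val] 4 = ac g 4 from hh.elim fun i hi => ⟨i.val, i.isLt, hi⟩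
    refine rho_orbit ⟨_, h4⟩ (by_contra fun hm => ?_)
      ((d.fr.ac_qn hgz (by norm_num)).trans (by decide)) ?_ ?_
    · have hj : ac g 4 < 4 := by
        simp only [not_le] at hm
        omega
      have e := (rho_fix _ h4).2 hj
      rw [← hf.act _ h4, ← d.fr.ac_mul hf.comm hgz (by norm_num), ← hgf.eq,
        d.fr.ac_mul hgz hf.comm (by norm_num), hf.act 4 (by norm_num)] at e
      have := congrArg (ac g⁻¹) e
      rw [d.fr.ac_inv hgz (rho_spec 4 (by norm_num)).1, d.fr.ac_inv hgz (by norm_num)] at this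
      exact rho_four.1 this
    all_goals
      have key : ∀ w ∈ [1, 2], ∃ w' ∈ [1, 2], ac g w' = w := by
        intro w hw
        have h12 : ac g 1 ≠ ac g 2 := fun e => by
          have := congrArg (ac g⁻¹) e
          rw [d.fr.ac_inv hgz (by norm_num), d.fr.ac_inv hgz (by norm_num)] at this
          norm_num at this
        have h1 := hg12 1 (by simp)
        have h2 := hg12 2 (by simp)
        simp only [List.mem_cons, List.not_mem_nil, or_false] at hw h1 h2 ⊢
        rcases h1 with e | e <;> rcases h2 with e' | e' <;> rcases hw with rfl | rfl <;>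
          first
          | exact ⟨1, Or.inl rfl, e⟩
          | exact ⟨2, Or.inr rfl, e'⟩
          | exact absurd (e.trans e'.symm) h12
    · obtain ⟨w', hw', e⟩ := key 1 (by simp)
      show bn (ac g 4) _ = false
      rw [← e, d.fr.ac_bn hgz (by norm_num) (by simp at hw'; omega)]
      clear e; revert w'; decide
    · obtain ⟨w', hw', e⟩ := key 2 (by simp)
      show bn (ac g 4) _ = false
      rw [← e, d.fr.ac_bn hgz (by norm_num) (by simp at hw'; omega)]
      clear e; revert w'; decide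
  -- move back
  refine ⟨(5 - i) % 5, Nat.mod_lt _ (by norm_num), ?_⟩
  set h := g * f ^ ((5 - i) % 5) with hh
  have hhz : Commute h z := hgz.mul_left (hf.comm.pow_left _)
  have hhf : Commute h f := hgf.mul_left ((Commute.refl f).pow_left _)
  have hh4 : ac h 4 = 4 := by
    have : h = f ^ ((5 - i) % 5) * g := by rw [hh, (hgf.pow_right _).eq]
    rw [this, d.fr.ac_mul (hf.comm.pow_left _) hgz (by norm_num), ac_pow d.fr hf.comm hf.act _ _ h4,
      ← hi4]
    exact rho_back ⟨i, hi⟩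
  have hstep : ∀ k < 64, ac h k = k → ac h (rho k) = rho k := fun k hk e => by
    rw [← hf.act k hk, ← d.fr.ac_mul hhz hf.comm hk, hhf.eq, d.fr.ac_mul hf.comm hhz hk, e]
  obtain ⟨v1, v2, v3, -⟩ := rho_orbit_vals
  have h8 : ac h 8 = 8 := v1 ▸ hstep 4 (by norm_num) hh4
  have h28 : ac h 28 = 28 := v2 ▸ hstep 8 (by norm_num) h8
  have h44 : ac h 44 = 44 := v3 ▸ hstep 28 (by norm_num) h28
  have h16 : ac h 16 = 16 := by
    have := d.fr.ac_xor hhz (show 4 ^^^ 8 < 64 by decide) (show 28 < 64 by norm_num)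
    rw [d.fr.ac_xor hhz (show 4 < 64 by norm_num) (show 8 < 64 by norm_num), hh4, h8, h28] at this
    exact this
  have h32 : ac h 32 = 32 := by
    have := d.fr.ac_xor hhz (show 4 ^^^ 8 < 64 by decide) (show 44 < 64 by norm_num)
    rw [d.fr.ac_xor hhz (show 4 < 64 by norm_num) (show 8 < 64 by norm_num), hh4, h8, h44] at this
    exact this
  have hlin : ∀ k < 64, ac h k = lin (ac h 1) (ac h 2) 4 8 16 32 k := fun k hk => by
    have := (d.fr.iso hhz).lin_eq hk
    rw [hh4, h8, h16, h32] at this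
    exact this.symm
  -- the fixed plane is fixed pointwise
  have h12 : ac h 1 = 1 ∧ ac h 2 = 2 := by
    have hg' : ∀ k ∈ [1, 2], ac h k ∈ [1, 2] := fun k hk => by
      have hk' : k < 4 := by simp at hk; omega
      have e : rho^[(5 - i) % 5] k = k :=
        Function.iterate_fixed ((rho_fix k (by omega)).2 hk') _
      rw [hh, d.fr.ac_mul hgz (hf.comm.pow_left _) (by omega),
        ac_pow d.fr hf.comm hf.act _ _ (by omega), e]
      exact hg12 k hk
    have a1 := hg' 1 (by simp)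
    have a2 := hg' 2 (by simp)
    have hne : ac h 1 ≠ ac h 2 := fun e => by
      have := d.fr.ac_inv hhz (show 1 < 64 by norm_num)
      rw [e, d.fr.ac_inv hhz (by norm_num)] at this
      norm_num at this
    simp only [List.mem_cons, List.not_mem_nil, or_false] at a1 a2
    rcases a1 with e | e <;> rcases a2 with e' | e'
    · exact absurd (e.trans e'.symm) hne
    · exact ⟨e, e'⟩
    · exfalso
      refine d.fr.not_refl h hhz 3 (by norm_num) (by decide) fun k hk => ?_
      rw [hlin k hk, e, e']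
      exact swap_refl k hk
    · exact absurd (e.trans e'.symm) hne
  have hQ : h ∈ Q := d.fr.faithful h hhz fun k hk => by
    rw [hlin k hk, h12.1, h12.2]
    exact lin_self hk
  refine ⟨hQ, (rho_fix _ (d.fr.co_lt h hQ)).1 ?_⟩
  rw [← hf.act _ (d.fr.co_lt h hQ), ← d.fr.conj f hf.comm h hQ, mul_inv_eq_iff_eq_mul.2 hhf.symm.eq]

omit d in
theorem ne_one : f ≠ 1 := fun e => by
  have := hf.ord
  rw [e, orderOf_one] at this
  norm_num at this

/-- An element of `C(z)` inducing the squaring on `⟨f⟩`. -/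
theorem exists_square : ∃ c, Commute c z ∧ c * f * c⁻¹ = f ^ 2 := by
  obtain ⟨c₁, h1, e1⟩ := d.fr.exists_pair 3 (by norm_num) 12 (by norm_num) (by decide) (by decide)
  obtain ⟨c₂, h2, e2⟩ := d.fr.exists_pair 16 (by norm_num) 56 (by norm_num) (by decide) (by decide)
  set c := c₁ * c₂ with hc
  have hcz : Commute c z := h1.mul_left h2
  have hck : ∀ k < 64, ac c k = sig k := fun k hk => by
    rw [hc, d.fr.ac_mul h1 h2 hk, e1 _ (d.fr.ac_lt h2 hk), e2 k hk]
    rfl
  set f' := c * f * c⁻¹ with hf'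
  have hf'z : Commute f' z := (hcz.mul_left hf.comm).mul_left hcz.inv_left
  have hact : ∀ k < 64, ac f' k = rho (rho k) := fun k hk => by
    have hk' := d.fr.ac_lt hcz.inv_left hk
    rw [hf', d.fr.ac_conj hf.comm hcz hk, hf.act _ hk', hck _ (rho_spec _ hk').1,
      (sig_rho _ hk').1, ← hck _ hk', d.fr.ac_inv' hcz hk]
  -- Sylow in `⟨f, Q⟩`
  have hf5 : f ^ 5 = 1 := hf.ord ▸ pow_orderOf_eq_one f
  have hq : f' * (f ^ 3) ∈ Q := d.fr.faithful _ (hf'z.mul_left (hf.comm.pow_left _)) fun k hk => by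
    have h3 : rho (rho (rho k)) < 64 := (rho_spec _ (rho_spec _ (rho_spec k hk).1).1).1
    rw [d.fr.ac_mul hf'z (hf.comm.pow_left _) hk, ac_pow d.fr hf.comm hf.act 3 k hk,
      hact _ (by simpa [Function.iterate_succ_apply'] using h3)]
    simpa [Function.iterate_succ_apply'] using (rho_spec k hk).2
  have hQC : ∀ q ∈ Q, Commute q z := d.fr.es.comm
  let H : Subgroup G :=
    { carrier := {g | ∃ j : ℕ, ∃ q ∈ Q, g = q * f ^ j}
      one_mem' := ⟨0, 1, one_mem Q, by simp⟩
      mul_mem' := by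
        rintro _ _ ⟨j, q, hq, rfl⟩ ⟨j', q', hq', rfl⟩
        refine ⟨j + j', q * (f ^ j * q' * (f ^ j)⁻¹),
          mul_mem hq (d.fr.norm _ (hf.comm.pow_left j) q' hq'), ?_⟩
        rw [pow_add]; group
      inv_mem' := by
        rintro _ ⟨j, q, hq, rfl⟩
        refine ⟨4 * j, f ^ (4 * j) * q⁻¹ * (f ^ (4 * j))⁻¹,
          d.fr.norm _ (hf.comm.pow_left _) _ (inv_mem hq), ?_⟩
        have : (f ^ j)⁻¹ = f ^ (4 * j) := inv_eq_of_mul_eq_one_right (by
          rw [← pow_add, show j + 4 * j = 5 * j by ring, pow_mul, hf5, one_pow])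
        rw [mul_inv_rev, this]; group }
  have hfH : f ∈ H := ⟨1, 1, one_mem Q, by simp⟩
  have hf'H : f' ∈ H := ⟨2, f' * f ^ 3, hq, by
    rw [mul_assoc, ← pow_add, show 3 + 2 = 5 by rfl, hf5, mul_one]⟩
  have hcardH : ¬ 25 ∣ Nat.card H := by
    intro h25
    let φ : ↥Q × Fin 5 → ↥H := fun p => ⟨p.1.1 * f ^ (p.2 : ℕ), p.2, p.1.1, p.1.2, rfl⟩
    have hsurj : Function.Surjective φ := by
      rintro ⟨_, j, q, hq, rfl⟩
      refine ⟨(⟨q, hq⟩, ⟨j % 5, Nat.mod_lt _ (by norm_num)⟩), Subtype.ext ?_⟩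
      show q * f ^ (j % 5) = q * f ^ j
      rw [← hf.ord, pow_mod_orderOf]
    have hinj : Function.Injective φ := by
      rintro ⟨⟨q, hq⟩, i⟩ ⟨⟨q', hq'⟩, i'⟩ e
      have e' : q * f ^ (i : ℕ) = q' * f ^ (i' : ℕ) := congrArg Subtype.val e
      have key := congrArg (fun g => ac g 4) e'
      rw [d.fr.ac_mul (hQC q hq) (hf.comm.pow_left _) (by norm_num),
        d.fr.ac_mul (hQC q' hq') (hf.comm.pow_left _) (by norm_num),
        d.fr.ac_Q hq (d.fr.ac_lt (hf.comm.pow_left _) (by norm_num)),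
        d.fr.ac_Q hq' (d.fr.ac_lt (hf.comm.pow_left _) (by norm_num)),
        ac_pow d.fr hf.comm hf.act _ 4 (by norm_num), ac_pow d.fr hf.comm hf.act _ 4 (by norm_num)] at key
      have hii : i = i' := by
        revert key
        have : ∀ i i' : Fin 5, rho^[(i : ℕ)] 4 = rho^[(i' : ℕ)] 4 → i = i' := by decide +kernel
        exact this i i'
      subst hii
      obtain rfl : q = q' := mul_right_cancel e'
      rfl
    rw [← Nat.card_congr (Equiv.ofBijective φ ⟨hinj, hsurj⟩), Nat.card_prod, d.fr.card, Nat.card_fin] at h25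
    norm_num at h25
  have : Fact (Nat.Prime 5) := ⟨by norm_num⟩
  have hP : ∀ g : G, ∀ hg : g ∈ H, orderOf g = 5 →
      ∃ S : Sylow 5 H, (S : Subgroup H) = Subgroup.zpowers (⟨g, hg⟩ : H) := by
    intro g hg ho
    have hc5 : Nat.card (Subgroup.zpowers (⟨g, hg⟩ : H)) = 5 := by
      rw [Nat.card_zpowers, Subgroup.orderOf_mk, ho]
    obtain ⟨S, hS⟩ := (IsPGroup.of_card (n := 1) (by rw [hc5, pow_one]) :
      IsPGroup 5 (Subgroup.zpowers (⟨g, hg⟩ : H))).exists_le_sylow
    refine ⟨S, (Subgroup.eq_of_le_of_card_ge hS ?_).symm⟩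
    obtain ⟨m, hm⟩ := S.2.exists_card_eq
    rw [hc5, hm]
    rcases m with _ | _ | m
    · norm_num
    · norm_num
    · refine absurd ?_ hcardH
      refine dvd_trans ?_ (Subgroup.card_subgroup_dvd_card (S : Subgroup H))
      rw [hm, show (25 : ℕ) = 5 ^ 2 by norm_num]
      exact pow_dvd_pow 5 (by omega)
  obtain ⟨S, hS⟩ := hP f hfH hf.ord
  obtain ⟨T, hT⟩ := hP f' hf'H (by rw [hf', Involutions.Basic.orderOf_conj_eq, hf.ord])
  obtain ⟨h, hh⟩ := MulAction.exists_smul_eq H S T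
  obtain ⟨j₀, q, hq, hhq⟩ := h.2
  have hmem : (⟨f', hf'H⟩ : H) ∈ ((h • S : Sylow 5 H) : Subgroup H) := by
    rw [hh, hT]; exact Subgroup.mem_zpowers _
  rw [Sylow.coe_subgroup_smul, hS] at hmem
  obtain ⟨y, hy, he⟩ := hmem
  obtain ⟨m, rfl⟩ := (mem_powers_iff_mem_zpowers.2 hy)
  have he' : (h : G) * f ^ m * (h : G)⁻¹ = f' := congrArg Subtype.val he
  rw [hhq, show q * f ^ j₀ * f ^ m * (q * f ^ j₀)⁻¹ = q * (f ^ j₀ * f ^ m * (f ^ j₀)⁻¹) * q⁻¹ by group,
    ← pow_add, add_comm, pow_add, mul_inv_cancel_right] at he'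
  have hm : f ^ m = f ^ 2 := by
    have key := congrArg (fun g => ac g 4) he'
    rw [d.fr.ac_conj (hf.comm.pow_left m) (hQC q hq) (by norm_num),
      d.fr.ac_Q (inv_mem hq) (by norm_num),
      d.fr.ac_Q hq (d.fr.ac_lt (hf.comm.pow_left _) (by norm_num)), hact 4 (by norm_num),
      ac_pow d.fr hf.comm hf.act _ 4 (by norm_num)] at key
    have h5 : ∀ j < 5, rho^[j] 4 = rho (rho 4) → j = 2 := by decide +kernel
    have hr : rho^[m] 4 = rho^[m % 5] 4 := by
      have hper : Function.IsPeriodicPt rho 5 4 := by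
        show rho^[5] 4 = 4
        simpa [Function.iterate_succ_apply'] using (rho_spec 4 (by norm_num)).2
      exact (hper.iterate_mod_apply m).symm
    have := h5 (m % 5) (Nat.mod_lt _ (by norm_num)) (hr ▸ key)
    rw [← pow_mod_orderOf f m, hf.ord, this]
  rw [hm] at he'
  refine ⟨q⁻¹ * c, (hQC q hq).inv_left.mul_left hcz, ?_⟩
  calc q⁻¹ * c * f * (q⁻¹ * c)⁻¹ = q⁻¹ * f' * q := by rw [hf']; group
    _ = f ^ 2 := by rw [← he']; group

end Gen5

end Cfsg.Agent.Lib.SuzFive11
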