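import Cfsg.Agent.Lib.SuzFive11.Auto

/-!
# Suzuki type: the prime five, assembled

Owner: helper11.
-/

set_option autoImplicit false

namespace Cfsg.Agent.Lib.SuzFive11

open Cfsg.Agent.Lib.SuzType52 Cfsg.Agent.Lib.Involutions.Basic
open Cfsg.Agent.Lib.SuzSeven52 (BT FiveB)

variable {G : Type*} [Group G] [Finite G] {z : G} {Q : Subgroup G} {co : G → ℕ} {ac : G → ℕ → ℕ}
  {x n : G}

/-- The data for the prime five. -/
theorem five_data (d : Duo z Q co ac x n) (hB : FiveB z) : Data z := by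
  obtain ⟨f, hf⟩ := Gen5.exists d
  obtain ⟨b, hb, hb2, hbQ⟩ := d.exists_form
  obtain ⟨c, -, hc⟩ := hf.exists_square d
  obtain ⟨hb1, hnot, -⟩ := d.b_type hb hb2 hbQ
  have hset : {u : G | IsConj b u} = {u : G | BT z u} := by
    ext u
    refine ⟨fun hu => ⟨invol_iff.2 (sq_of_isConj hb2 hb1 hu), fun e => hnot (e.trans hu.symm)⟩, fun hu => ?_⟩
    exact d.isConj_b hb (invol_mul_self hu.ord) (invol_ne_one hu.ord) hu.ne
  refine ⟨d.fr.ord, fun c hc => hf.rt_cent d hB hc, fun c hc => hf.wt_cent d hB hc,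
    fun c hc t ht hct => hf.rt_invol d hc ht hct, ?_, ⟨f, c, ⟨hf.ord, z, IsConj.refl z, hf.comm⟩, hc⟩, ?_⟩
  · obtain ⟨v, f', hv, hf', hfv⟩ := hB.exists_pair
    exact ⟨f', hf', v, hv, hfv⟩
  · intro P hP hfix A B Ls hLs hA hB' hA5 hB5 hAz hnz hBw hnw
    rw [← hset] at hBw hnw
    exact d.lines_count hb hb2 hbQ P hP hfix A B Ls hLs hA hB' hA5 hB5 hAz hnz hBw hnw

namespace Data

variable (h : Data z)
include h

/-- Two classes of subgroups of order five, and the normaliser of any Sylow subgroup. -/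
theorem sylow_five (S : Sylow 5 G) :
    (∃ A B : Subgroup G, Nat.card A = 5 ∧ Nat.card B = 5 ∧
      (∀ g' : G, A.map (MulAut.conj g').toMonoidHom ≠ B) ∧
      ∀ C : Subgroup G, Nat.card C = 5 →
        ∃ g' : G, C.map (MulAut.conj g').toMonoidHom = A ∨ C.map (MulAut.conj g').toMonoidHom = B) ∧
    Nat.card (S : Subgroup G) = 25 ∧
    Nat.card ↥(Subgroup.normalizer ((S : Subgroup G) : Set G)) = 600 ∧
    Nonempty (↥(Subgroup.normalizer ((S : Subgroup G) : Set G)) ⧸
      (S : Subgroup G).subgroupOf (Subgroup.normalizer ((S : Subgroup G) : Set G)) ≃*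
        Multiplicative (ZMod 4) × Equiv.Perm (Fin 3)) := by
  have : Fact (Nat.Prime 5) := ⟨by norm_num⟩
  obtain ⟨f, a, y, g, t, q, e⟩ := h.exists_full
  obtain ⟨T, hT⟩ := e.exists_sylow h
  obtain ⟨hN, ⟨E⟩⟩ := e.normalizer_data h
  obtain ⟨w, hw⟩ := MulAction.exists_smul_eq G T S
  have hS : (S : Subgroup G) = (plane f a).map (MulAut.conj w).toMonoidHom := by
    rw [← hw, Sylow.coe_subgroup_smul, hT]; rfl
  have hmap : (Subgroup.normalizer ((plane f a : Subgroup G) : Set G)).map (MulAut.conj w).toMonoidHom =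
      Subgroup.normalizer ((S : Subgroup G) : Set G) := by
    rw [hS]
    exact Subgroup.map_equiv_normalizer_eq (plane f a) (MulAut.conj w)
  refine ⟨e.two_classes h, ?_, ?_, ?_⟩
  · rw [hS, Subgroup.card_map_of_injective (MulAut.conj w).injective, e.toBase.card_plane h]
  · rw [← hmap, Subgroup.card_map_of_injective (MulAut.conj w).injective, hN]
  · let φ : ↥(Subgroup.normalizer ((plane f a : Subgroup G) : Set G)) ≃*
        ↥(Subgroup.normalizer ((S : Subgroup G) : Set G)) :=
      ((MulAut.conj w).subgroupMap _).trans (MulEquiv.subgroupCongr hmap)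
    have := Subgroup.normal_in_normalizer (H := plane f a)
    have := Subgroup.normal_in_normalizer (H := (S : Subgroup G))
    refine ⟨(QuotientGroup.congr ((plane f a).subgroupOf _) ((S : Subgroup G).subgroupOf _) φ ?_).symm.trans E⟩
    ext v
    simp only [Subgroup.mem_map, Subgroup.mem_subgroupOf]
    constructor
    · rintro ⟨u, hu, rfl⟩
      exact hS.ge ⟨_, hu, rfl⟩
    · intro hv
      obtain ⟨u, rfl⟩ := φ.surjective v
      refine ⟨u, ?_, rfl⟩
      obtain ⟨u', hu', he⟩ := hS.le hv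
      rwa [← (MulAut.conj w).injective (show (MulAut.conj w) u' = (MulAut.conj w) (u : G) from he)]

/-- The centraliser of an element of order five has order prime to seven. -/
theorem seven_not_dvd {c : G} (hc : orderOf c = 5) :
    ¬ 7 ∣ Nat.card (Subgroup.centralizer ({c} : Set G)) := by
  obtain ⟨f, a, y, g, t, q, e⟩ := h.exists_full
  obtain ⟨g', o, ho⟩ := e.conj_line h (C := Subgroup.zpowers c) (by rw [Nat.card_zpowers, hc])
  obtain ⟨m, σ, r, hm, hW, -, -, hr⟩ := e.gens h
  have b := e.toBase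
  have hY := b.y_acts h
  obtain ⟨⟨s1, hs1, e1⟩, -⟩ := rmat_lines m hm
  have hn : RT z (el f a (rep none)) := by
    show RT z (el f a (1, 0))
    rw [b.el_fst]; exact b.rf
  have h2 := b.rt_move hr hs1 e1 hn
  have htyped : RT z (el f a (rep o)) ∨ WT z (el f a (rep o)) := by
    rcases six_lines m hm o with rfl | rfl | rfl | rfl | rfl | rfl
    · exact Or.inl hn
    · exact Or.inr ((hW _).2 (Or.inl rfl))
    · exact Or.inr ((hW _).2 (Or.inr (Or.inl rfl)))
    · exact Or.inr ((hW _).2 (Or.inr (Or.inr rfl)))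
    · exact Or.inl h2
    · obtain ⟨s, hs, he⟩ := y_rep (2 * m)
      exact Or.inl (b.rt_move hY hs he h2)
  rw [MonoidHom.map_zpowers] at ho
  have hback : g'⁻¹ * (g' * c * g'⁻¹) * g'⁻¹⁻¹ = c := by group
  have hgen : Subgroup.zpowers (el f a (rep o)) = Subgroup.zpowers (g' * c * g'⁻¹) := ho.symm
  rcases htyped with ht | ht
  · exact (h.rt c (hback ▸ (ht.of_gen hgen).conj g'⁻¹)).seven
  · exact (h.wt c (hback ▸ (ht.of_gen hgen).conj g'⁻¹)).seven

end Data

/-- No element of order seven centralising an element of order five is inverted or moved by a three-element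
centralising the same element. -/
theorem five_no_frobenius (d : Duo z Q co ac x n) (hB : FiveB z) {f a b : G} (hf : orderOf f = 5)
    (ha : orderOf a = 7) (_hb : ∃ k, b ^ 3 ^ k = 1) (haf : Commute a f) (_hbf : Commute b f)
    (_hn : b * a * b⁻¹ ∈ Subgroup.zpowers a) : Commute b a :=
  absurd (ha ▸ Subgroup.orderOf_dvd_natCard _ (Subgroup.mem_centralizer_singleton_iff.2 haf.eq))
    ((five_data d hB).seven_not_dvd hf)

end Cfsg.Agent.Lib.SuzFive11
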