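import Mathlib

/-!
# Small facts about the plane over the field with five elements and about `Z₄ × S₃`

Owner: helper11.
-/

set_option autoImplicit false

namespace Cfsg.Agent.Lib.SuzFive11

/-- The plane over the field with five elements. -/
abbrev V5 := ZMod 5 × ZMod 5

/-- A linear map of the plane, given by the images of the two basis vectors. -/
abbrev M5 := V5 × V5

/-- The linear map applied to a vector. -/
def ap (M : M5) (v : V5) : V5 := (v.1 * M.1.1 + v.2 * M.2.1, v.1 * M.1.2 + v.2 * M.2.2)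

/-- Composition. -/
def comp (M N : M5) : M5 := (ap M N.1, ap M N.2)

/-- A multiple of a vector. -/
def sm (k : ZMod 5) (v : V5) : V5 := (k * v.1, k * v.2)

/-- The identity. -/
def one5 : M5 := ((1, 0), (0, 1))

/-- Fixes the first and negates the second basis vector. -/
def ymat : M5 := ((1, 0), (0, 4))

/-- Negates the first and fixes the second basis vector. -/
def tmat : M5 := ((4, 0), (0, 1))

/-- A diagonal map. -/
def dmat (p q : ZMod 5) : M5 := ((p, 0), (0, q))

/-- The determinant of two vectors. -/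
def cr (v w : V5) : ZMod 5 := v.1 * w.2 - v.2 * w.1

/-- The fifth power. -/
def p5 (M : M5) : M5 := comp M (comp M (comp M (comp M M)))

/-- The representatives of the six lines. -/
def rep : Option (ZMod 5) → V5
  | none => (1, 0)
  | some i => (i, 1)

theorem rep_cover : ∀ v : V5, v ≠ 0 → ∃ o : Option (ZMod 5), ∃ s : ZMod 5, s ≠ 0 ∧ v = sm s (rep o) := by
  decide +kernel

theorem rep_unique : ∀ o o' : Option (ZMod 5), ∀ s : ZMod 5, rep o = sm s (rep o') → o = o' := by
  decide +kernel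

theorem y_rep : ∀ i : ZMod 5, ∃ s : ZMod 5, s ≠ 0 ∧ ap ymat (rep (some i)) = sm s (rep (some (-i))) := by
  decide +kernel

set_option synthInstance.maxSize 4096 in
/-- An element of order five fixing neither basis vector: a fixed vector is mapped by `ymat` into the orbit
of the first. -/
theorem unip_fix : ∀ M : M5, p5 M = one5 → M ≠ one5 →
    ap M (1, 0) = (1, 0) ∨ ap M (0, 1) = (0, 1) ∨
    ∃ c : V5, c ≠ 0 ∧ ap M c = c ∧ ∃ k : Fin 5, ∃ s : ZMod 5, s ≠ 0 ∧
      ap ymat c = sm s ((ap M)^[k.val] (1, 0)) := by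
  decide +kernel

theorem invol_fst : ∀ B : V5, comp ((1, 0), B) ((1, 0), B) = one5 → B ≠ (0, 1) →
    B.2 = 4 ∧ p5 (comp ymat ((1, 0), B)) = one5 ∧ (comp ymat ((1, 0), B) = one5 → B = (0, 4)) := by
  decide +kernel

theorem inverted_snd : ∀ v : V5, ap ymat v = sm 4 v → v.1 = 0 := by decide +kernel

theorem diag_sq : ∀ q : ZMod 5, q ≠ 0 → comp (dmat 2 q) (dmat 2 q) = tmat ∨
    comp (comp (dmat 2 q) (dmat 2 q)) ymat = tmat := by decide +kernel

theorem p5_tmat : p5 tmat = tmat ∧ tmat ≠ one5 ∧ comp tmat tmat = one5 := by decide +kernel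

/-- A reflection fixing `(i, 1)`, `i ≠ 0`, fixes neither axis, else there is a product of order five. -/
theorem refl_axes : ∀ M : M5, ∀ i k : ZMod 5, i ≠ 0 → ap M (i, 1) = (i, 1) →
    ap M (0, 1) + (0, 1) = sm k (i, 1) →
    ((ap M (0, 1)).1 = 0 → p5 (comp ymat M) = one5 ∧ comp ymat M ≠ one5) ∧
      ((ap M (1, 0)).2 = 0 → p5 (comp tmat M) = one5 ∧ comp tmat M ≠ one5) := by
  decide +kernel

theorem sm_fst_zero : ∀ s : ZMod 5, (sm s (rep (some 0))).1 = 0 ∧ (sm s (rep none)).2 = 0 := by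
  decide +kernel

/-- The reflection that exchanges the second axis and the line of `(-m, 1)`. -/
def rmat (m : ZMod 5) : M5 := ((3, 4 * m ^ 3), (3 * m, 2))

theorem refl_mat : ∀ M : M5, ∀ m k : ZMod 5, m ≠ 0 → ap M (m, 1) = (m, 1) →
    ap M (0, 1) + (0, 1) = sm k (m, 1) → cr (ap M (0, 1)) (-m, 1) = 0 → M = rmat m := by
  decide +kernel

theorem cr_sm : ∀ s : ZMod 5, ∀ v : V5, cr (sm s v) v = 0 := by decide +kernel

theorem rmat_lines : ∀ m : ZMod 5, m ≠ 0 →
    (∃ s : ZMod 5, s ≠ 0 ∧ ap (rmat m) (rep none) = sm s (rep (some (2 * m)))) ∧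
      (∃ s : ZMod 5, s ≠ 0 ∧ ap (rmat m) (rep (some 0)) = sm s (rep (some (-m)))) := by
  decide +kernel

theorem rmat_y : ∀ m : ZMod 5, m ≠ 0 →
    cr (ap (comp ymat (rmat m)) (0, 1)) (0, 1) ≠ 0 ∧
      ∀ v ∈ [((0 : ZMod 5), (1 : ZMod 5)), (m, 1), (-m, 1)],
        cr (ap (comp ymat (rmat m)) (ap (comp ymat (rmat m)) (ap (comp ymat (rmat m)) v))) v = 0 := by
  decide +kernel

/-- A map fixing three lines is a scalar. -/
theorem scalar_of_three : ∀ A : V5, ∀ k m : ZMod 5, m ≠ 0 → cr (ap (A, (0, k)) (m, 1)) (m, 1) = 0 →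
    cr (ap (A, (0, k)) (-m, 1)) (-m, 1) = 0 → (A, ((0 : ZMod 5), k)) = dmat k k := by
  decide +kernel

theorem two_pow_cover : ∀ k : ZMod 5, k ≠ 0 → ∃ l : Fin 4, k = 2 ^ l.val := by decide +kernel

theorem dmat_mul : ∀ k l : ZMod 5, comp (dmat k k) (dmat l l) = dmat (k * l) (k * l) := by decide +kernel

theorem dmat_comm : ∀ M : M5, ∀ k : ZMod 5, comp M (dmat k k) = comp (dmat k k) M := by decide +kernel

theorem neg_set : ∀ S : Finset (ZMod 5), (∀ i ∈ S, -i ∈ S) → S.card = 3 →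
    ∃ m : ZMod 5, m ≠ 0 ∧ S = {0, m, -m} := by decide +kernel

theorem delta_two : ∀ q m s : ZMod 5, ∀ e : Fin 3, m ≠ 0 → q ≠ 0 →
    ap (dmat 2 q) (m, 1) = sm s (rep (some (![0, m, -m] e))) → q = 2 ∨ q = 3 := by decide +kernel

theorem six_lines : ∀ m : ZMod 5, m ≠ 0 → ∀ o : Option (ZMod 5),
    o = none ∨ o = some 0 ∨ o = some m ∨ o = some (-m) ∨ o = some (2 * m) ∨ o = some (-(2 * m)) := by
  decide +kernel

/-- `Z₄ × S₃` from a central cyclic kernel and two involutions. -/
theorem four_times_three {W : Type*} [Group W] [Finite W] (ψ : W →* Equiv.Perm (Fin 3)) (s u v : W)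
    (hs : orderOf s = 4) (hker : ψ.ker = Subgroup.zpowers s) (hsc : ∀ w, Commute s w) (hu : u * u = 1)
    (hv : v * v = 1) (hψu : ψ u ≠ 1) (huv : ψ (u * v) ^ 3 = 1) (huv1 : ψ (u * v) ≠ 1) :
    Nat.card W = 24 ∧ Nonempty (W ≃* Multiplicative (ZMod 4) × Equiv.Perm (Fin 3)) := by
  -- adjust `v` so that `(u v)^3 = 1`
  obtain ⟨v', hv', hψv', h3⟩ : ∃ v', v' * v' = 1 ∧ ψ v' = ψ v ∧ (u * v') ^ 3 = 1 := by
    obtain ⟨i, hi⟩ : ∃ i : ℕ, s ^ i = (u * v) ^ 3 :=
      mem_powers_iff_mem_zpowers.2 (hker ▸ (MonoidHom.mem_ker).2 (by rw [map_pow, huv]))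
    have hconj : u * (u * v) ^ 3 * u⁻¹ = ((u * v) ^ 3)⁻¹ := by
      rw [← conj_pow, ← inv_pow]
      congr 1
      have hu' : u⁻¹ = u := inv_eq_of_mul_eq_one_right hu
      have hv' : v⁻¹ = v := inv_eq_of_mul_eq_one_right hv
      rw [mul_inv_rev, hu', hv', ← mul_assoc u u v, hu, one_mul]
    rw [← hi, ((hsc u).pow_left i).symm.eq, mul_inv_cancel_right, eq_inv_iff_mul_eq_one, ← pow_add,
      ← orderOf_dvd_iff_pow_eq_one, hs] at hconj
    by_cases h0 : s ^ i = 1
    · exact ⟨v, hv, rfl, hi ▸ h0⟩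
    have hi2 : i % 4 = 2 := by
      have : i % 4 ≠ 0 := fun e => h0 (by rw [← pow_mod_orderOf, hs, e, pow_zero])
      omega
    have h22 : s ^ i = s ^ 2 := by rw [← pow_mod_orderOf, hs, hi2]
    have h4 : s ^ 4 = 1 := hs ▸ pow_orderOf_eq_one s
    refine ⟨v * s ^ 2, ?_, ?_, ?_⟩
    · have hc : Commute v (s ^ 2) := ((hsc v).pow_left 2).symm
      rw [← pow_two, hc.mul_pow, pow_two v, hv, one_mul, ← pow_mul]
      exact h4
    · rw [map_mul, (MonoidHom.mem_ker).1 (show s ^ 2 ∈ ψ.ker by rw [hker]; exact pow_mem (Subgroup.mem_zpowers s) 2), mul_one]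
    · have hc : Commute (u * v) (s ^ 2) := ((hsc (u * v)).pow_left 2).symm
      rw [← mul_assoc, hc.mul_pow, ← hi, h22, ← pow_mul, ← pow_add, show 2 + 2 * 3 = 4 * 2 by rfl, pow_mul,
        h4, one_pow]
  have h3o : orderOf (ψ (u * v')) = 3 := by
    have : Fact (Nat.Prime 3) := ⟨by norm_num⟩
    rw [map_mul, hψv', ← map_mul]
    exact orderOf_eq_prime huv huv1
  have h2o : orderOf (ψ u) = 2 := by
    have : Fact (Nat.Prime 2) := ⟨Nat.prime_two⟩
    exact orderOf_eq_prime (by rw [← map_pow, pow_two, hu, map_one]) hψu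
  have hS3 : Nat.card (Equiv.Perm (Fin 3)) = 6 := by rw [Nat.card_perm, Nat.card_fin]; rfl
  set H := Subgroup.closure ({u, v'} : Set W) with hH
  have huH : u ∈ H := Subgroup.subset_closure (by simp)
  have hvH : v' ∈ H := Subgroup.subset_closure (by simp)
  have hrange : (ψ.comp H.subtype).range = ⊤ := by
    refine Subgroup.eq_top_of_card_eq _ (Nat.dvd_antisymm (Subgroup.card_subgroup_dvd_card _) ?_)
    rw [hS3]
    refine (show (6 : ℕ) = 2 * 3 by rfl) ▸ ?_
    refine Nat.Coprime.mul_dvd_of_dvd_of_dvd (by norm_num) ?_ ?_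
    · exact h2o.symm.dvd.trans (Subgroup.orderOf_dvd_natCard _ (MonoidHom.mem_range.2 ⟨⟨u, huH⟩, rfl⟩))
    · refine h3o.symm.dvd.trans ?_
      exact Subgroup.orderOf_dvd_natCard _ (MonoidHom.mem_range.2 ⟨⟨u * v', mul_mem huH hvH⟩, rfl⟩)
  have hHcard : Nat.card H ≤ 6 := by
    -- the words `(u v')^i` and `(u v')^i u`
    let w : Fin 3 × Fin 2 → W := fun p => (u * v') ^ p.1.val * u ^ p.2.val
    have hu2 : u ^ 2 = 1 := by rw [pow_two, hu]
    have hsw : u * (u * v') = (u * v') ^ 2 * u := by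
      have : (u * v') ^ 2 * (u * v') = 1 := by rw [← pow_succ]; exact h3
      rw [← mul_assoc, hu, one_mul, eq_inv_of_mul_eq_one_left this, mul_inv_rev,
        inv_eq_of_mul_eq_one_right hu, inv_eq_of_mul_eq_one_right hv', mul_assoc, hu, mul_one]
    have key : ∀ x ∈ H, x ∈ Set.range w := by
      have hwu : ∀ p, w p * u ∈ Set.range w := fun p => by
        refine ⟨(p.1, p.2 + 1), ?_⟩
        obtain ⟨i, j⟩ := p
        fin_cases j <;> simp [w, mul_assoc, hu]
      have hwv : ∀ p, w p * v' ∈ Set.range w := fun p => by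
        obtain ⟨i, j⟩ := p
        fin_cases j
        · -- `v' = u (u v')`
          refine ⟨(i + 2, 1), ?_⟩
          have : v' = (u * v') ^ 2 * u := by rw [← hsw, ← mul_assoc, hu, one_mul]
          show (u * v') ^ (i + 2 : Fin 3).val * u ^ (1 : Fin 2).val = (u * v') ^ i.val * u ^ 0 * v'
          simp only [pow_zero, mul_one]
          refine Eq.trans ?_ (congrArg ((u * v') ^ i.val * ·) this).symm
          show (u * v') ^ (i + 2 : Fin 3).val * u ^ (1 : Fin 2).val = (u * v') ^ i.val * ((u * v') ^ 2 * u)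
          rw [← mul_assoc, ← pow_add, pow_eq_pow_mod (i.val + 2) h3]
          simp [Fin.val_add]
        · refine ⟨(i + 1, 0), ?_⟩
          show (u * v') ^ (i + 1 : Fin 3).val * u ^ (0 : Fin 2).val = (u * v') ^ i.val * u ^ 1 * v'
          simp only [pow_one, Fin.val_zero, pow_zero, mul_one]
          rw [mul_assoc, ← pow_succ, pow_eq_pow_mod (i.val + 1) h3]
          simp [Fin.val_add]
      intro x hx
      induction hx using Subgroup.closure_induction_right with
      | one => exact ⟨(0, 0), by simp [w]⟩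
      | mul_right x y _ hy ih =>
        obtain ⟨p, rfl⟩ := ih
        rcases hy with rfl | rfl
        · exact hwu p
        · exact hwv p
      | mul_inv_cancel x y _ hy ih =>
        obtain ⟨p, rfl⟩ := ih
        rcases hy with rfl | rfl
        · rw [inv_eq_of_mul_eq_one_right hu]; exact hwu p
        · rw [inv_eq_of_mul_eq_one_right hv']; exact hwv p
    have : Nat.card H ≤ Nat.card (Fin 3 × Fin 2) := by
      choose g hg using key
      exact Nat.card_le_card_of_injective (fun x : H => g x.1 x.2) fun a b e =>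
        Subtype.ext (by rw [← hg a.1 a.2, ← hg b.1 b.2]; exact congrArg w e)
    simpa using this
  have hHbij : Function.Bijective (ψ.comp H.subtype) := by
    have hsurj := MonoidHom.range_eq_top.1 hrange
    refine (Nat.bijective_iff_surjective_and_card _).2 ⟨hsurj, ?_⟩
    exact le_antisymm (hS3 ▸ hHcard) (Nat.card_le_card_of_surjective _ hsurj)
  have hcom : ∀ (a : Subgroup.zpowers s) (c : H), Commute (a : W) (c : W) := fun a c => by
    obtain ⟨i, hi⟩ := a.2
    exact hi ▸ (hsc c).zpow_left i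
  let Θ : Subgroup.zpowers s × H →* W :=
    MonoidHom.noncommCoprod (Subgroup.zpowers s).subtype H.subtype hcom
  have hΘ : Function.Bijective Θ := by
    constructor
    · rintro ⟨a, c⟩ ⟨a', c'⟩ e
      have e' : (a : W) * c = a' * c' := e
      have hψ := congrArg ψ e'
      rw [map_mul, map_mul, (MonoidHom.mem_ker).1 (show (a : W) ∈ ψ.ker by rw [hker]; exact a.2),
        (MonoidHom.mem_ker).1 (show (a' : W) ∈ ψ.ker by rw [hker]; exact a'.2),
        one_mul, one_mul] at hψ
      obtain rfl := hHbij.1 hψ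
      exact Prod.ext (Subtype.ext (mul_right_cancel e')) rfl
    · intro w
      obtain ⟨c, hc⟩ := hHbij.2 (ψ w)
      have hm : w * (c : W)⁻¹ ∈ Subgroup.zpowers s := by
        rw [← hker, MonoidHom.mem_ker, map_mul, map_inv]
        exact mul_inv_eq_one.2 hc.symm
      exact ⟨(⟨_, hm⟩, c), inv_mul_cancel_right w (c : W)⟩
  have hcyc : Nat.card (Subgroup.zpowers s) = 4 := by rw [Nat.card_zpowers, hs]
  have e4 : Multiplicative (ZMod 4) ≃* Subgroup.zpowers s := hcyc ▸ zmodCyclicMulEquiv inferInstance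
  let E := (MulEquiv.ofBijective Θ hΘ).symm.trans
    (e4.symm.prodCongr (MulEquiv.ofBijective _ hHbij))
  refine ⟨?_, ⟨E⟩⟩
  rw [Nat.card_congr E.toEquiv, Nat.card_prod, hS3, Nat.card_congr Multiplicative.toAdd, Nat.card_zmod]

end Cfsg.Agent.Lib.SuzFive11
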