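import Cfsg.Agent.Lib.SuzFive11.Cent
import Cfsg.Agent.Lib.SuzTypeCount11.Lines
import Cfsg.Agent.Lib.SuzFive11.Mat

/-!
# Suzuki type: a plane of order `25`, its reflections, and the Sylow order

Owner: helper11.
-/

set_option autoImplicit false

namespace Cfsg.Agent.Lib.SuzFive11

open Cfsg.Agent.Lib.Involutions.Basic
open Cfsg.Agent.Lib.SuzSeven52 (BT)

variable {G : Type*} [Group G] [Finite G] {z : G}

/-- What is used about the involutions and the elements of order five of a group of Suzuki type. -/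
structure Data (z : G) : Prop where
  zord : orderOf z = 2
  rt : ∀ c, RT z c → Cent5 c 45
  wt : ∀ c, WT z c → Cent5 c 15
  rinv : ∀ c, RT z c → ∀ t, orderOf t = 2 → Commute c t → IsConj z t
  wex : ∃ c, WT z c
  square : ∃ f c, RT z f ∧ c * f * c⁻¹ = f ^ 2
  count : ∀ P : Subgroup G, Nat.card P = 25 →
    (∀ t : G, t * t = 1 → t ≠ 1 → ¬ P ≤ Subgroup.centralizer ({t} : Set G)) →
    ∀ A B Ls : Finset (Subgroup G), (∀ L, L ∈ Ls ↔ L ≤ P ∧ Nat.card L = 5) → A ⊆ Ls → B ⊆ Ls →
    ¬ 5 ∣ A.card → ¬ 5 ∣ B.card →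
    (∀ L ∈ A, (SuzType52.cfix {u | IsConj z u} L).ncard = 45) →
    (∀ L ∈ Ls, L ∉ A → SuzType52.cfix {u | IsConj z u} L = ∅) →
    (∀ L ∈ B, (SuzType52.cfix {u | BT z u} L).ncard = 15) →
    (∀ L ∈ Ls, L ∉ B → SuzType52.cfix {u | BT z u} L = ∅) → B.card % 5 = 3

namespace Data

variable (h : Data z)
include h

omit [Finite G] in
theorem ord_of_conj {t : G} (ht : IsConj z t) : orderOf t = 2 := by
  obtain ⟨g, rfl⟩ := isConj_iff.1 ht
  rw [orderOf_conj_eq, h.zord]

omit [Finite G] in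
theorem disj {c : G} (hR : RT z c) (hW : WT z c) : False := by
  obtain ⟨-, v, hv, hcv⟩ := hW
  exact hv.ne (h.rinv c hR v hv.ord hcv)

omit [Finite G] in
theorem typed {c t : G} (hc : orderOf c = 5) (ht : orderOf t = 2) (hct : Commute c t) : RT z c ∨ WT z c := by
  by_cases e : IsConj z t
  · exact Or.inl ⟨hc, t, e, hct⟩
  · exact Or.inr ⟨hc, t, ⟨ht, e⟩, hct⟩

omit [Finite G] in
theorem not_dvd_typed {c : G} (hc : RT z c ∨ WT z c) :
    ¬ 125 ∣ Nat.card (Subgroup.centralizer ({c} : Set G)) := by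
  rcases hc with hc | hc
  · exact (h.rt c hc).not_dvd
  · exact (h.wt c hc).not_dvd

end Data

section Coordinates

variable {f a : G}

/-- The element with given coordinates. -/
def el (f a : G) (v : V5) : G := f ^ v.1.val * a ^ v.2.val

/-- `n` acts on the plane by `M`. -/
def Acts (f a n : G) (M : M5) : Prop := n * f * n⁻¹ = el f a M.1 ∧ n * a * n⁻¹ = el f a M.2

/-- The plane. -/
def plane (f a : G) : Subgroup G := Subgroup.centralizer ({f, a} : Set G)

omit [Finite G] in
theorem pw_add {f : G} (hf : orderOf f = 5) (i j : ZMod 5) : f ^ (i + j).val = f ^ i.val * f ^ j.val := by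
  rw [← pow_add, ZMod.val_add, ← pow_mod_orderOf f (i.val + j.val), hf]

omit [Finite G] in
theorem pw_mul {f : G} (hf : orderOf f = 5) (i j : ZMod 5) : f ^ (i * j).val = (f ^ j.val) ^ i.val := by
  rw [← pow_mul, mul_comm j.val, ZMod.val_mul, ← pow_mod_orderOf f (i.val * j.val), hf]

end Coordinates

/-- A plane of order `25` with a reflection fixing a line of the first type. -/
structure Base (z f a y : G) : Prop where
  rf : RT z f
  ha : orderOf a = 5
  hfa : Commute f a
  hna : a ∉ Subgroup.zpowers f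
  hy : orderOf y = 2
  hfy : Commute f y
  hya : y * a * y⁻¹ = a⁻¹

namespace Base

variable {f a y : G} (b : Base z f a y)
include b

omit [Finite G] in
theorem hf : orderOf f = 5 := b.rf.1

omit [Finite G] in
theorem el_zero : el f a 0 = 1 := by simp [el]

omit [Finite G] in
theorem el_fst : el f a (1, 0) = f := by simp [el, show (1 : ZMod 5).val = 1 from rfl]

omit [Finite G] in
theorem el_snd : el f a (0, 1) = a := by simp [el, show (1 : ZMod 5).val = 1 from rfl]

omit [Finite G] in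
theorem el_add (v w : V5) : el f a (v + w) = el f a v * el f a w := by
  simp only [el, Prod.fst_add, Prod.snd_add, pw_add b.hf, pw_add b.ha]
  rw [((b.hfa.pow_pow _ _).symm).mul_mul_mul_comm]

omit [Finite G] in
theorem el_sm (k : ZMod 5) (v : V5) : el f a (sm k v) = el f a v ^ k.val := by
  simp only [el, sm, pw_mul b.hf, pw_mul b.ha, (b.hfa.pow_pow _ _).mul_pow]

omit [Finite G] in
theorem el_commute (v w : V5) : Commute (el f a v) (el f a w) := by
  show _ = _
  rw [← b.el_add, ← b.el_add, add_comm]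

omit [Finite G] in
theorem el_eq_one {v : V5} (e : el f a v = 1) : v = 0 := by
  by_cases h2 : v.2 = 0
  · refine Prod.ext ?_ h2
    rw [el, h2, ZMod.val_zero, pow_zero, mul_one, ← orderOf_dvd_iff_pow_eq_one, b.hf] at e
    have := v.1.val_lt
    exact (ZMod.val_eq_zero _).1 (by omega)
  · exfalso
    refine b.hna ?_
    have hmem : a ^ v.2.val ∈ Subgroup.zpowers f := by
      rw [el] at e
      rw [eq_inv_of_mul_eq_one_right e]
      exact inv_mem (pow_mem (Subgroup.mem_zpowers f) _)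
    have : a = (a ^ v.2.val) ^ (v.2⁻¹).val := by
      have : Fact (Nat.Prime 5) := ⟨by norm_num⟩
      rw [← pw_mul b.ha, inv_mul_cancel₀ h2, show (1 : ZMod 5).val = 1 from rfl, pow_one]
    rw [this]
    exact pow_mem hmem _

omit [Finite G] in
theorem el_inj {v w : V5} (e : el f a v = el f a w) : v = w := by
  have : el f a (v - w) = 1 := by
    have := b.el_add (v - w) w
    rw [sub_add_cancel, e] at this
    exact right_eq_mul.1 this
  exact sub_eq_zero.1 (b.el_eq_one this)

omit [Finite G] in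
theorem el_mem (v : V5) : el f a v ∈ plane f a := by
  refine mem_pair.2 ⟨?_, ?_⟩
  · nth_rw 2 [← b.el_fst]; exact b.el_commute _ _
  · nth_rw 2 [← b.el_snd]; exact b.el_commute _ _

omit [Finite G] in
theorem f_mem : f ∈ plane f a := by
  have := b.el_mem (1, 0); rwa [b.el_fst] at this

omit [Finite G] in
theorem a_mem : a ∈ plane f a := by
  have := b.el_mem (0, 1); rwa [b.el_snd] at this

omit [Finite G] in
theorem el_pow_five (v : V5) : el f a v ^ 5 = 1 := by
  rw [el, (b.hfa.pow_pow _ _).mul_pow, ← pow_mul, ← pow_mul, mul_comm v.1.val, mul_comm v.2.val, pow_mul,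
    pow_mul, show f ^ 5 = 1 from b.hf ▸ pow_orderOf_eq_one f,
    show a ^ 5 = 1 from b.ha ▸ pow_orderOf_eq_one a, one_pow, one_pow, one_mul]

omit [Finite G] in
theorem el_order {v : V5} (hv : v ≠ 0) : orderOf (el f a v) = 5 :=
  have : Fact (Nat.Prime 5) := ⟨by norm_num⟩
  orderOf_eq_prime (b.el_pow_five v) fun e => hv (b.el_eq_one e)

omit [Finite G] in
theorem el_zpowers {s : ZMod 5} (hs : s ≠ 0) (v : V5) :
    Subgroup.zpowers (el f a (sm s v)) = Subgroup.zpowers (el f a v) := by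
  refine le_antisymm (Subgroup.zpowers_le.2 ?_) (Subgroup.zpowers_le.2 ?_)
  · rw [b.el_sm]; exact pow_mem (Subgroup.mem_zpowers _) _
  · have : Fact (Nat.Prime 5) := ⟨by norm_num⟩
    have e : el f a v = el f a (sm s v) ^ (s⁻¹).val := by
      rw [← b.el_sm]
      congr 1
      simp [sm, ← mul_assoc, inv_mul_cancel₀ hs]
    rw [e]; exact pow_mem (Subgroup.mem_zpowers _) _

variable (h : Data z)
include h

omit [Finite G] in
theorem card_plane : Nat.card (plane f a) = 25 := (h.rt f b.rf).cent a b.ha b.hfa b.hna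

theorem el_surj {g : G} (hg : g ∈ plane f a) : ∃ v, el f a v = g := by
  let φ : V5 → plane f a := fun v => ⟨el f a v, b.el_mem v⟩
  have hφ : Function.Bijective φ := (Nat.bijective_iff_injective_and_card φ).2
    ⟨fun v w e => b.el_inj (congrArg Subtype.val e), by
      rw [b.card_plane h, Nat.card_prod, Nat.card_zmod]⟩
  obtain ⟨v, hv⟩ := hφ.2 ⟨g, hg⟩
  exact ⟨v, congrArg Subtype.val hv⟩

omit [Finite G] in
theorem not_cent {t : G} (ht : t * t = 1) (ht1 : t ≠ 1) :
    ¬ plane f a ≤ Subgroup.centralizer ({t} : Set G) := fun hle => by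
  have hc : ∀ v, Commute t (el f a v) := fun v =>
    (Subgroup.mem_centralizer_singleton_iff.1 (hle (b.el_mem v))).symm
  have htP : t ∈ plane f a := mem_pair.2 ⟨b.el_fst ▸ hc _, b.el_snd ▸ hc _⟩
  have := Subgroup.orderOf_dvd_natCard _ htP
  rw [b.card_plane h, invol_iff.2 ⟨ht, ht1⟩] at this
  norm_num at this

end Base

namespace Base

variable {f a y : G} (b : Base z f a y) {n n' : G} {M M' : M5}
include b

omit [Finite G] in
theorem apply (hn : Acts f a n M) (v : V5) : n * el f a v * n⁻¹ = el f a (ap M v) := by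
  rw [show el f a v = f ^ v.1.val * a ^ v.2.val from rfl, show n * (f ^ v.1.val * a ^ v.2.val) * n⁻¹ =
    n * f ^ v.1.val * n⁻¹ * (n * a ^ v.2.val * n⁻¹) by group, ← conj_pow, ← conj_pow, hn.1, hn.2,
    ← b.el_sm, ← b.el_sm, ← b.el_add]
  rfl

omit [Finite G] in
theorem acts_mul (hn : Acts f a n M) (hn' : Acts f a n' M') : Acts f a (n * n') (comp M M') := by
  constructor
  · rw [show n * n' * f * (n * n')⁻¹ = n * (n' * f * n'⁻¹) * n⁻¹ by group, hn'.1, b.apply hn]; rfl
  · rw [show n * n' * a * (n * n')⁻¹ = n * (n' * a * n'⁻¹) * n⁻¹ by group, hn'.2, b.apply hn]; rfl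

omit [Finite G] in
theorem acts_p5 (hn : Acts f a n M) : Acts f a (n ^ 5) (p5 M) := by
  rw [show n ^ 5 = n * (n * (n * (n * n))) by simp [pow_succ, mul_assoc]]
  exact b.acts_mul hn (b.acts_mul hn (b.acts_mul hn (b.acts_mul hn hn)))

omit [Finite G] in
theorem acts_iter (hn : Acts f a n M) (k : ℕ) (v : V5) :
    n ^ k * el f a v * (n ^ k)⁻¹ = el f a ((ap M)^[k] v) := by
  induction k with
  | zero => simp
  | succ k ih =>
    rw [Function.iterate_succ_apply', ← b.apply hn, ← ih, pow_succ' n k]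
    group

omit [Finite G] in
theorem acts_unique (hn : Acts f a n M) (hn' : Acts f a n M') : M = M' :=
  Prod.ext (b.el_inj (hn.1.symm.trans hn'.1)) (b.el_inj (hn.2.symm.trans hn'.2))

omit [Finite G] in
theorem acts_one5 : Acts f a n one5 ↔ n ∈ plane f a := by
  rw [plane, mem_pair, Acts, one5, b.el_fst, b.el_snd, mul_inv_eq_iff_eq_mul, mul_inv_eq_iff_eq_mul]
  rfl

omit [Finite G] in
theorem acts_one : Acts f a 1 one5 := b.acts_one5.2 (one_mem _)

variable (h : Data z)
include h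

theorem mem_normalizer : n ∈ Subgroup.normalizer ((plane f a : Subgroup G) : Set G) ↔ ∃ M, Acts f a n M := by
  constructor
  · intro hn
    obtain ⟨u, hu⟩ := b.el_surj h ((Subgroup.mem_normalizer_iff.1 hn f).1 b.f_mem)
    obtain ⟨v, hv⟩ := b.el_surj h ((Subgroup.mem_normalizer_iff.1 hn a).1 b.a_mem)
    exact ⟨(u, v), hu.symm, hv.symm⟩
  · rintro ⟨M, hM⟩
    have hle : (plane f a).map (MulAut.conj n).toMonoidHom = plane f a := by
      refine Subgroup.eq_of_le_of_card_ge ?_ ?_
      · rintro _ ⟨g, hg, rfl⟩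
        obtain ⟨v, rfl⟩ := b.el_surj h hg
        show n * el f a v * n⁻¹ ∈ plane f a
        rw [b.apply hM]
        exact b.el_mem _
      · rw [Subgroup.card_map_of_injective (MulAut.conj n).injective]
    refine Subgroup.mem_normalizer_iff.2 fun g => ⟨fun hg => ?_, fun hg => ?_⟩
    · exact hle.le ⟨g, hg, rfl⟩
    · obtain ⟨g', hg', e⟩ := hle.ge hg
      rwa [show g = g' from (MulAut.conj n).injective e.symm]

theorem acts_conj (hn : Acts f a n M) (hn' : Acts f a n' M') : ∃ M'', Acts f a (n * n' * n⁻¹) M'' :=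
  (b.mem_normalizer h).1 (mul_mem (mul_mem ((b.mem_normalizer h).2 ⟨M, hn⟩) ((b.mem_normalizer h).2 ⟨M', hn'⟩))
    (inv_mem ((b.mem_normalizer h).2 ⟨M, hn⟩)))

omit h in
theorem acts_invol (hn : Acts f a n M) (h2 : n * n = 1) : comp M M = one5 :=
  b.acts_unique (h2 ▸ b.acts_mul hn hn) b.acts_one

theorem invol_not_mem (hn : orderOf n = 2) : n ∉ plane f a := fun hm => by
  have := Subgroup.orderOf_dvd_natCard _ hm
  rw [b.card_plane h, hn] at this
  norm_num at this

theorem big_cent {c : G} (hM : Acts f a n M) (hn5 : n ^ 5 ∈ plane f a) (hn : n ∉ plane f a)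
    (hc : c ∈ plane f a) (hnc : Commute n c) : 125 ∣ Nat.card (Subgroup.centralizer ({c} : Set G)) := by
  have : Fact (Nat.Prime 5) := ⟨by norm_num⟩
  have h125 : n ^ 5 ^ 2 = 1 := by
    obtain ⟨v, hv⟩ := b.el_surj h hn5
    rw [pow_two, pow_mul, ← hv, b.el_pow_five]
  have hP : IsPGroup 5 (plane f a) := IsPGroup.of_card (n := 2) (by rw [b.card_plane h]; norm_num)
  have hN : IsPGroup 5 (Subgroup.zpowers n) := by
    obtain ⟨i, -, hi⟩ := (Nat.dvd_prime_pow (by norm_num)).1 (orderOf_dvd_of_pow_eq_one h125)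
    exact IsPGroup.of_card (n := i) (by rw [Nat.card_zpowers, hi])
  obtain ⟨k, hk⟩ := (IsPGroup.to_sup_of_normal_left' hP hN
    (Subgroup.zpowers_le.2 ((b.mem_normalizer h).2 ⟨M, hM⟩))).exists_card_eq
  have hlt : 25 < Nat.card ↥(plane f a ⊔ Subgroup.zpowers n) := by
    by_contra hle
    refine hn ?_
    have heq : plane f a = plane f a ⊔ Subgroup.zpowers n :=
      Subgroup.eq_of_le_of_card_ge le_sup_left (by rw [b.card_plane h]; omega)
    rw [heq]
    exact le_sup_right (a := plane f a) (Subgroup.mem_zpowers n)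
  have hk3 : 3 ≤ k := by
    by_contra hk3
    interval_cases k <;> omega
  refine (show 125 ∣ Nat.card ↥(plane f a ⊔ Subgroup.zpowers n) from ?_).trans (Subgroup.card_dvd_of_le ?_)
  · rw [hk, show (125 : ℕ) = 5 ^ 3 by norm_num]; exact pow_dvd_pow 5 hk3
  · refine sup_le (fun g hg => ?_) (Subgroup.zpowers_le.2 (Subgroup.mem_centralizer_singleton_iff.2 hnc))
    obtain ⟨v, rfl⟩ := b.el_surj h hg
    obtain ⟨w, rfl⟩ := b.el_surj h hc
    exact Subgroup.mem_centralizer_singleton_iff.2 (b.el_commute v w)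

theorem no_unip_fst (hM : Acts f a n M) (h1 : M.1 = (1, 0)) (h5 : p5 M = one5) : n ∈ plane f a := by
  by_contra hn
  refine (h.rt f b.rf).not_dvd (b.big_cent h hM (b.acts_one5.1 (h5 ▸ b.acts_p5 hM)) hn
    b.f_mem ?_)
  have := hM.1
  rw [h1, b.el_fst] at this
  exact mul_inv_eq_iff_eq_mul.1 this

theorem y_acts : Acts f a y ymat := by
  refine ⟨?_, ?_⟩
  · show y * f * y⁻¹ = el f a (1, 0)
    rw [b.el_fst, ← b.hfy.eq, mul_inv_cancel_right]
  · show y * a * y⁻¹ = el f a (0, 4)
    rw [b.hya, el, show (4 : ZMod 5).val = 4 from rfl, ZMod.val_zero, pow_zero, one_mul]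
    refine inv_eq_of_mul_eq_one_right ?_
    rw [← pow_succ', show 4 + 1 = 5 by rfl, ← b.ha, pow_orderOf_eq_one]

end Base

/-- A plane with its two reflections and an element squaring `f`. -/
structure Full (z f a y g t : G) (q : ZMod 5) : Prop extends Base z f a y where
  gacts : Acts f a g (dmat 2 q)
  hq : q ≠ 0
  ht : orderOf t = 2
  tacts : Acts f a t tmat

theorem Data.exists_full (h : Data z) : ∃ f a y g t q, Full z f a y g t q := by
  have : Fact (Nat.Prime 5) := ⟨by norm_num⟩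
  obtain ⟨f, c, hf, hcf⟩ := h.square
  obtain ⟨y, a, hy, hfy, ha, hfa, hna, hya⟩ := (h.rt f hf).pair
  have b : Base z f a y := ⟨hf, ha, hfa, hna, hy, hfy, hya⟩
  -- two Sylow subgroups of the centraliser of `f`
  set C := Subgroup.centralizer ({f} : Set G) with hC
  have hPC : plane f a ≤ C := fun g hg => Subgroup.mem_centralizer_singleton_iff.2 (mem_pair.1 hg).1
  have hPC' : (plane f a).map (MulAut.conj c).toMonoidHom ≤ C := by
    rintro _ ⟨g, hg, rfl⟩
    have hgf : Commute (c * g * c⁻¹) (c * f * c⁻¹) := (mem_pair.1 hg).1.map (MulAut.conj c).toMonoidHom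
    rw [hcf] at hgf
    have := hgf.pow_right 3
    rw [← pow_mul, show f ^ (2 * 3) = f by
      rw [show 2 * 3 = 5 + 1 by rfl, pow_succ, ← hf.1, pow_orderOf_eq_one, one_mul]] at this
    exact Subgroup.mem_centralizer_singleton_iff.2 this
  have hsyl : ∀ K : Subgroup G, K ≤ C → Nat.card K = 25 → ∃ S : Sylow 5 C, (S : Subgroup C) = K.subgroupOf C := by
    intro K hK hK25
    have hc : Nat.card (K.subgroupOf C) = 25 := by
      rw [Nat.card_congr (Subgroup.subgroupOfEquivOfLe hK).toEquiv, hK25]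
    obtain ⟨S, hS⟩ := (IsPGroup.of_card (n := 2) (by rw [hc]; norm_num) :
      IsPGroup 5 (K.subgroupOf C)).exists_le_sylow
    refine ⟨S, (Subgroup.eq_of_le_of_card_ge hS ?_).symm⟩
    rw [hc]
    obtain ⟨m, hm⟩ := S.2.exists_card_eq
    rw [hm]
    by_contra hlt
    refine (h.rt f hf).not_dvd (dvd_trans ?_ (Subgroup.card_subgroup_dvd_card (S : Subgroup C)))
    rw [hm, show (125 : ℕ) = 5 ^ 3 by norm_num]
    refine pow_dvd_pow 5 ?_
    by_contra hm3
    exact hlt (le_trans (Nat.pow_le_pow_right (by norm_num) (show m ≤ 2 by omega)) le_rfl)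
  obtain ⟨S, hS⟩ := hsyl _ hPC' (by
    rw [Subgroup.card_map_of_injective (MulAut.conj c).injective, b.card_plane h])
  obtain ⟨T, hT⟩ := hsyl _ hPC (b.card_plane h)
  obtain ⟨k, hk⟩ := MulAction.exists_smul_eq C S T
  have hmove : ∀ v, (k : G) * c * el f a v * ((k : G) * c)⁻¹ ∈ plane f a := by
    intro v
    have hm : (k * ⟨c * el f a v * c⁻¹, hPC' ⟨_, b.el_mem v, rfl⟩⟩ * k⁻¹ : C) ∈
        ((k • S : Sylow 5 C) : Subgroup C) := by
      rw [Sylow.coe_subgroup_smul, hS]
      exact ⟨⟨c * el f a v * c⁻¹, hPC' ⟨_, b.el_mem v, rfl⟩⟩, ⟨_, b.el_mem v, rfl⟩, rfl⟩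
    rw [hk, hT] at hm
    have : ((k : G) * (c * el f a v * c⁻¹) * (k : G)⁻¹) ∈ plane f a := hm
    rw [show (k : G) * c * el f a v * ((k : G) * c)⁻¹ = (k : G) * (c * el f a v * c⁻¹) * (k : G)⁻¹ by group]
    exact this
  set g := (k : G) * c with hg
  have hgf : g * f * g⁻¹ = el f a (2, 0) := by
    have hkf : Commute (k : G) (f ^ 2) := Commute.pow_right (Subgroup.mem_centralizer_singleton_iff.1 k.2) 2
    rw [hg, show (k : G) * c * f * ((k : G) * c)⁻¹ = (k : G) * (c * f * c⁻¹) * (k : G)⁻¹ by group, hcf,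
      hkf.eq, mul_inv_cancel_right, el, show (2 : ZMod 5).val = 2 from rfl, ZMod.val_zero, pow_zero, mul_one]
  obtain ⟨B, hB⟩ := b.el_surj h (b.el_snd ▸ hmove (0, 1))
  have hgM : Acts f a g ((2, 0), B) := ⟨hgf, hB.symm⟩
  -- a second reflection
  obtain ⟨M', hM'⟩ := b.acts_conj h hgM (b.y_acts h)
  have hy' : orderOf (g * y * g⁻¹) = 2 := by rw [orderOf_conj_eq, hy]
  have hfst : M'.1 = (1, 0) := by
    refine b.el_inj (hM'.1.symm.trans ?_)
    rw [b.el_fst]
    have hc : Commute (g * y * g⁻¹) (g * f * g⁻¹) := hfy.symm.map (MulAut.conj g).toMonoidHom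
    rw [hgf, el, show (2 : ZMod 5).val = 2 from rfl, ZMod.val_zero, pow_zero, mul_one] at hc
    have := hc.pow_right 3
    rw [← pow_mul, show f ^ (2 * 3) = f by
      rw [show 2 * 3 = 5 + 1 by rfl, pow_succ, ← hf.1, pow_orderOf_eq_one, one_mul]] at this
    rw [this.eq, mul_inv_cancel_right]
  obtain ⟨M1, M2⟩ := M'
  obtain rfl : M1 = (1, 0) := hfst
  have hne : M2 ≠ (0, 1) := fun e => b.invol_not_mem h hy' (b.acts_one5.1 (by rw [e] at hM'; exact hM'))
  obtain ⟨-, hp5, hone⟩ := invol_fst M2 (b.acts_invol hM' (invol_mul_self hy')) hne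
  have hmem := b.no_unip_fst h (b.acts_mul (b.y_acts h) hM') (by rfl) hp5
  obtain rfl : M2 = (0, 4) := hone (b.acts_unique (b.acts_mul (b.y_acts h) hM') (b.acts_one5.2 hmem))
  have hB1 : B.1 = 0 := by
    refine inverted_snd B (b.el_inj ?_)
    rw [show ap ymat B = ap ((1, 0), (0, 4)) B from rfl, ← b.apply hM', hB,
      show g * y * g⁻¹ * (g * a * g⁻¹) * (g * y * g⁻¹)⁻¹ = g * (y * a * y⁻¹) * g⁻¹ by group, hya, ← conj_inv,
      b.el_sm, hB, show (4 : ZMod 5).val = 4 from rfl]
    refine inv_eq_of_mul_eq_one_right ?_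
    rw [← pow_succ', show 4 + 1 = 5 by rfl, conj_pow, ← ha, pow_orderOf_eq_one, mul_one, mul_inv_cancel]
  have hq : B.2 ≠ 0 := fun e => by
    have : B = 0 := Prod.ext hB1 e
    rw [this, b.el_zero] at hB
    have h1 := conj_eq_one_iff.1 hB.symm
    rw [h1, orderOf_one] at ha
    norm_num at ha
  have hgM' : Acts f a g (dmat 2 B.2) := by
    have : ((((2 : ZMod 5), (0 : ZMod 5)), B) : M5) = dmat 2 B.2 := by
      unfold dmat; rw [← hB1]
    rwa [this] at hgM
  obtain ⟨n, hn⟩ : ∃ n, Acts f a n tmat := by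
    rcases diag_sq B.2 hq with e | e
    · exact ⟨g * g, e ▸ b.acts_mul hgM' hgM'⟩
    · exact ⟨g * g * y, e ▸ b.acts_mul (b.acts_mul hgM' hgM') (b.y_acts h)⟩
  obtain ⟨hp, hne1, hsq⟩ := p5_tmat
  have ht2 : n ^ 5 * n ^ 5 = 1 := by
    have hm := b.acts_one5.1 (hsq ▸ b.acts_mul hn hn)
    obtain ⟨v, hv⟩ := b.el_surj h hm
    rw [← (Commute.refl n).mul_pow, ← hv, b.el_pow_five]
  have ht5 := hp ▸ b.acts_p5 hn
  refine ⟨f, a, y, g, n ^ 5, B.2, ⟨b, hgM', hq, invol_iff.2 ⟨ht2, fun e => ?_⟩, ht5⟩⟩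
  exact hne1 (b.acts_unique (e ▸ ht5) b.acts_one)

namespace Full

variable {f a y g t : G} {q : ZMod 5} (e : Full z f a y g t q) (h : Data z)
include e h

omit [Finite G] in
theorem a_typed : RT z a ∨ WT z a := by
  refine h.typed e.ha e.ht ?_
  have := e.tacts.2
  rw [show tmat.2 = ((0, 1) : V5) from rfl, e.toBase.el_snd] at this
  exact (mul_inv_eq_iff_eq_mul.1 this).symm

/-- No element outside the plane acts on it with order five. -/
theorem no_unip {n : G} {M : M5} (hM : Acts f a n M) (h5 : p5 M = one5) : n ∈ plane f a := by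
  have b := e.toBase
  have hn5 := b.acts_one5.1 (h5 ▸ b.acts_p5 hM)
  by_contra hn
  have hne : M ≠ one5 := fun e' => hn (b.acts_one5.1 (e' ▸ hM))
  rcases unip_fix M h5 hne with h1 | h1 | ⟨c, hc0, hc, k, s, hs, hk⟩
  · refine hn (b.no_unip_fst h hM ?_ h5)
    simpa [ap] using h1
  · refine h.not_dvd_typed (e.a_typed h) (b.big_cent h hM hn5 hn b.a_mem ?_)
    have := b.apply hM (0, 1)
    rw [h1, b.el_snd] at this
    exact mul_inv_eq_iff_eq_mul.1 this
  · -- a fixed vector, reflected, is conjugate into the line of `f`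
    have hbig := b.big_cent h hM hn5 hn (b.el_mem c) (mul_inv_eq_iff_eq_mul.1 ((b.apply hM c).trans (by rw [hc])))
    set w := (n ^ k.val)⁻¹ * y with hw
    have hwc : w * el f a c * w⁻¹ = f ^ s.val := by
      rw [hw, show (n ^ k.val)⁻¹ * y * el f a c * ((n ^ k.val)⁻¹ * y)⁻¹ =
        (n ^ k.val)⁻¹ * (y * el f a c * y⁻¹) * n ^ k.val by group, b.apply (b.y_acts h), hk, b.el_sm,
        ← b.acts_iter hM, b.el_fst, conj_pow]
      group
    refine (h.rt f b.rf).not_dvd (hbig.trans ?_)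
    rw [← Subgroup.card_map_of_injective (f := (MulAut.conj w).toMonoidHom) (MulAut.conj w).injective]
    refine Subgroup.card_dvd_of_le ?_
    rintro _ ⟨u, hu, rfl⟩
    have hc' : Commute (w * u * w⁻¹) (w * el f a c * w⁻¹) :=
      (show Commute u (el f a c) from Subgroup.mem_centralizer_singleton_iff.1 hu).map (MulAut.conj w).toMonoidHom
    rw [hwc] at hc'
    have : Fact (Nat.Prime 5) := ⟨by norm_num⟩
    have := hc'.pow_right (s⁻¹).val
    rw [← pw_mul b.hf, inv_mul_cancel₀ hs, show (1 : ZMod 5).val = 1 from rfl, pow_one] at this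
    exact Subgroup.mem_centralizer_singleton_iff.2 this

theorem not_fix : ∀ (m : ℕ) {n : G} {M : M5}, Acts f a n M → n ^ 5 ^ m = 1 → n ∈ plane f a := by
  intro m
  induction m with
  | zero => intro n M _ hn; rw [pow_zero, pow_one] at hn; exact hn ▸ one_mem _
  | succ m ih =>
    intro n M hM hn
    rw [pow_succ', pow_mul] at hn
    have h5 := e.toBase.acts_one5.2 (ih (e.toBase.acts_p5 hM) hn)
    exact e.no_unip h hM (e.toBase.acts_unique (e.toBase.acts_p5 hM) h5)

theorem not_dvd_card : ¬ 125 ∣ Nat.card G := by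
  intro h125
  have : Fact (Nat.Prime 5) := ⟨by norm_num⟩
  obtain ⟨K, hK, hle⟩ := Sylow.exists_subgroup_card_pow_succ (p := 5) (G := G) (n := 2)
    (by simpa using h125) (by rw [e.toBase.card_plane h]; norm_num : Nat.card (plane f a) = 5 ^ 2)
  have hnorm : ((plane f a).subgroupOf K).Normal := by
    refine Subgroup.normal_of_index_eq_minFac_card ?_
    have hi := Subgroup.card_mul_index ((plane f a).subgroupOf K)
    rw [Nat.card_congr (Subgroup.subgroupOfEquivOfLe hle).toEquiv, e.toBase.card_plane h, hK] at hi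
    rw [hK, Nat.pow_minFac (by norm_num), Nat.Prime.minFac_eq (by norm_num)]
    norm_num at hi ⊢
    omega
  obtain ⟨u, huK, hu⟩ : ∃ u ∈ K, u ∉ plane f a := by
    by_contra hall
    push_neg at hall
    have := Subgroup.card_le_of_le (hall : K ≤ plane f a)
    rw [hK, e.toBase.card_plane h] at this
    norm_num at this
  have hun : u ∈ Subgroup.normalizer ((plane f a : Subgroup G) : Set G) :=
    (Subgroup.normal_subgroupOf_iff_le_normalizer hle).1 hnorm huK
  obtain ⟨M, hM⟩ := (e.toBase.mem_normalizer h).1 hun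
  refine hu (e.not_fix h 3 hM ?_)
  have := pow_card_eq_one' (G := K) (x := ⟨u, huK⟩)
  rw [hK] at this
  exact congrArg Subtype.val this

end Full

end Cfsg.Agent.Lib.SuzFive11
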