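import Cfsg.Agent.Lib.SuzFive11.Quot

/-!
# A central element of order seven and a four-group centralised only by itself

Owner: helper11.
-/

set_option autoImplicit false

namespace Cfsg.Agent.Lib.SuzFive11

open Cfsg.Agent.Lib.Involutions.Basic

section FourGroup

variable {Y : Type*} [Group Y] [Finite Y]

/-- A group in which each involution of a four-group is centralised only by the four-group: the four-group,
`A₄`, or a group with an element of order five. -/
theorem four_cases {w v : Y} (hw : w * w = 1) (hv : v * v = 1) (hwv : Commute w v) (hw1 : w ≠ 1) (hv1 : v ≠ 1)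
    (hne : w ≠ v)
    (hC : ∀ t ∈ [w, v, v * w], ∀ y : Y, Commute y t → y ∈ ({1, w, v, v * w} : Set Y)) :
    Nat.card Y = 4 ∨ (Nat.card Y = 12 ∧ Nonempty (Y ≃* alternatingGroup (Fin 4))) ∨
      ∃ f : Y, orderOf f = 5 := by
  classical
  have : Fact (Nat.Prime 2) := ⟨Nat.prime_two⟩
  have hwo : orderOf w = 2 := invol_iff.2 ⟨hw, hw1⟩
  have hvw : v * w ≠ 1 := fun e => hne (by
    rw [eq_inv_of_mul_eq_one_right e, inv_eq_of_mul_eq_one_right hv])
  have hvw2 : v * w * (v * w) = 1 := by
    rw [show v * w * (v * w) = v * (w * v) * w by group, hwv.eq, ← mul_assoc, hv, one_mul, hw]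
  set S4 : Finset Y := {1, w, v, v * w} with hS4
  have hmem : ∀ y : Y, y ∈ S4 ↔ y = 1 ∨ y = w ∨ y = v ∨ y = v * w := fun y => by simp [hS4]
  have hcard4 : S4.card = 4 := by
    rw [hS4, Finset.card_insert_of_notMem (by simp [hw1.symm, hv1.symm, hvw.symm]),
      Finset.card_insert_of_notMem (by
        simp only [Finset.mem_insert, Finset.mem_singleton, not_or]
        exact ⟨hne, fun e => hv1 (right_eq_mul.1 e)⟩),
      Finset.card_insert_of_notMem (by
        simp only [Finset.mem_singleton]
        exact fun e => hw1 (left_eq_mul.1 e)), Finset.card_singleton]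
  have hset : ∀ t ∈ [w, v, v * w], ∀ y : Y, y ∈ Subgroup.centralizer ({t} : Set Y) ↔ y ∈ S4 := by
    intro t ht y
    rw [Subgroup.mem_centralizer_singleton_iff]
    constructor
    · intro hy
      have := hC t ht y hy
      simpa [hmem] using this
    · intro hy
      have hbase : ∀ a ∈ [w, v], Commute y a := by
        have hww : Commute w w := Commute.refl w
        intro a ha
        simp only [List.mem_cons, List.not_mem_nil, or_false] at ha
        rcases (hmem y).1 hy with rfl | rfl | rfl | rfl <;> rcases ha with rfl | rfl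
        · exact Commute.one_left _
        · exact Commute.one_left _
        · exact hww
        · exact hwv
        · exact hwv.symm
        · exact Commute.refl _
        · exact hwv.symm.mul_left hww
        · exact (Commute.refl _).mul_left hwv
      simp only [List.mem_cons, List.not_mem_nil, or_false] at ht
      rcases ht with rfl | rfl | rfl
      · exact hbase _ (by simp)
      · exact hbase _ (by simp)
      · exact (hbase v (by simp)).mul_right (hbase w (by simp))
  have hcard : ∀ t ∈ [w, v, v * w], Nat.card (Subgroup.centralizer ({t} : Set Y)) = 4 := by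
    intro t ht
    rw [Nat.card_congr (Equiv.subtypeEquivRight (hset t ht)), Nat.card_eq_fintype_card, Fintype.card_coe, hcard4]
  set V := Subgroup.centralizer ({w} : Set Y) with hV
  have hwmem : w ∈ [w, v, v * w] := by simp
  have hV4 : Nat.card V = 4 := hcard w hwmem
  have hVmem : ∀ y : Y, y ∈ V ↔ y = 1 ∨ y = w ∨ y = v ∨ y = v * w := fun y => (hset w hwmem y).trans (hmem y)
  -- a Sylow subgroup
  obtain ⟨P, hP⟩ := (IsPGroup.of_card (n := 2) (by rw [hV4]; norm_num) : IsPGroup 2 V).exists_le_sylow
  have hPV : (P : Subgroup Y) = V := by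
    obtain ⟨c, hc, hcc⟩ : ∃ c ∈ (P : Subgroup Y), c ≠ 1 ∧ ∀ a ∈ (P : Subgroup Y), Commute a c := by
      have hwP : w ∈ (P : Subgroup Y) := hP ((hVmem w).2 (by simp))
      have : Nontrivial ↥(P : Subgroup Y) := ⟨⟨⟨w, hwP⟩, 1, fun e => hw1 (congrArg Subtype.val e)⟩⟩
      have := P.2.center_nontrivial
      obtain ⟨c, hc⟩ := exists_ne (1 : Subgroup.center ↥(P : Subgroup Y))
      refine ⟨c.1.1, c.1.2, fun e => hc (Subtype.ext (Subtype.ext e)), fun a ha => ?_⟩
      exact congrArg Subtype.val (Subgroup.mem_center_iff.1 c.2 ⟨a, ha⟩)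
    obtain ⟨hc1, hcc⟩ := hcc
    have hcV : c ∈ V := Subgroup.mem_centralizer_singleton_iff.2 (hcc w (hP ((hVmem w).2 (by simp)))).symm
    have hct : c ∈ [w, v, v * w] := by
      rcases (hVmem c).1 hcV with e | e | e | e
      · exact absurd e hc1
      all_goals simp [e]
    refine le_antisymm (fun a ha => ?_) hP
    exact (hset w hwmem a).2 ((hset c hct a).1 (Subgroup.mem_centralizer_singleton_iff.2 (hcc a ha)))
  have hK : IsKleinFour (P : Subgroup Y) := by
    rw [hPV]
    refine { card_four := hV4, exponent_two := ?_ }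
    have : Nontrivial V := ⟨⟨⟨w, (hVmem w).2 (by simp)⟩, 1, fun e => hw1 (congrArg Subtype.val e)⟩⟩
    refine (Monoid.exponent_eq_prime_iff Nat.prime_two).2 fun g hg => ?_
    refine orderOf_eq_prime (by
      rw [pow_two]
      refine Subtype.ext ?_
      rcases (hVmem g.1).1 g.2 with e | e | e | e <;> simp [e, hw, hv, hvw2]) hg
  have hO := odd_normal_bot hw hv hwv fun u hu => by
    refine IsPGroup.of_card (n := 2) ?_
    rw [hcard u ?_]
    · norm_num
    simp only [List.mem_cons, List.not_mem_nil, or_false] at hu ⊢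
    rcases hu with rfl | rfl | rfl
    · exact Or.inl rfl
    · exact Or.inr (Or.inl rfl)
    · exact Or.inr (Or.inr hwv.eq)
  rcases Cfsg.Agent.Lib.DihedralCentralizer.Klein.cases P hK hwo hPV.symm hO with h | h | ⟨⟨e⟩⟩
  · obtain ⟨Q, L, hL, hLc⟩ := h
    have hLodd : Odd (Nat.card L) := by
      rw [Nat.odd_iff, ← Nat.two_dvd_ne_zero, ← hLc.index_eq_card]
      exact Q.not_dvd_index
    left
    rw [← hLc.card_mul, hO L hL hLodd, Subgroup.card_bot, one_mul, Nat.card_congr (Sylow.equiv Q P).toEquiv,
      hPV, hV4]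
  · have hVn : V.Normal := hPV ▸ h
    -- the action on the four-group
    let T := {a : V // a ≠ 1}
    let act : Y →* Equiv.Perm T :=
      { toFun := fun g =>
          { toFun := fun a => ⟨⟨g * a.1.1 * g⁻¹, hVn.conj_mem _ a.1.2 g⟩,
              fun e => a.2 (Subtype.ext (conj_eq_one_iff.1 (congrArg Subtype.val e)))⟩
            invFun := fun a => ⟨⟨g⁻¹ * a.1.1 * g, by simpa using hVn.conj_mem _ a.1.2 g⁻¹⟩,
              fun e => a.2 (Subtype.ext ((conj_eq_one_iff (a := g⁻¹)).1 (by simpa using congrArg Subtype.val e)))⟩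
            left_inv := fun a => by ext; simp [mul_assoc]
            right_inv := fun a => by ext; simp [mul_assoc] }
        map_one' := by ext; simp
        map_mul' := fun a b => by ext; simp [mul_assoc] }
    have hker : act.ker ≤ V := fun g hg => by
      have := congrArg (fun σ : Equiv.Perm T =>
        ((σ ⟨⟨w, (hVmem w).2 (by simp)⟩, fun e => hw1 (congrArg Subtype.val e)⟩).1 : Y)) (MonoidHom.mem_ker.1 hg)
      exact Subgroup.mem_centralizer_singleton_iff.2 (mul_inv_eq_iff_eq_mul.1 this)
    have hT : Nat.card T = 3 := by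
      have := Fintype.ofFinite V
      rw [Nat.card_eq_fintype_card, Fintype.card_subtype, Finset.filter_ne', Finset.card_erase_of_mem
        (Finset.mem_univ _), Finset.card_univ, ← Nat.card_eq_fintype_card, hV4]
    have hker' : act.ker = V := by
      refine le_antisymm hker fun g hg => MonoidHom.mem_ker.2 (Equiv.ext fun a => ?_)
      apply Subtype.ext; apply Subtype.ext
      show g * a.1.1 * g⁻¹ = a.1.1
      have hc : Commute g a.1.1 := by
        have hat : a.1.1 ∈ [w, v, v * w] := by
          rcases (hVmem _).1 a.1.2 with e | e | e | e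
          · exact absurd (Subtype.ext e) a.2
          all_goals simp [e]
        exact Subgroup.mem_centralizer_singleton_iff.1 ((hset _ hat g).2 ((hset w hwmem g).1 hg))
      rw [hc.eq, mul_inv_cancel_right]
    have hidx : V.index ∣ 6 := by
      rw [← hker', Subgroup.index_ker]
      have := Subgroup.card_subgroup_dvd_card act.range
      rwa [Nat.card_perm, hT] at this
    have hodd : ¬ 2 ∣ V.index := by rw [← hPV]; exact P.not_dvd_index
    have hidx' : V.index = 1 ∨ V.index = 3 := by
      have h6 : V.index ≤ 6 := Nat.le_of_dvd (by norm_num) hidx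
      interval_cases hi : V.index <;> omega
    have hY := Subgroup.card_mul_index V
    rw [hV4] at hY
    rcases hidx' with hi | hi
    · left; rw [← hY, hi]
    · right; left
      have hY12 : Nat.card Y = 12 := by rw [← hY, hi]
      refine ⟨hY12, ?_⟩
      have : Fact (Nat.Prime 3) := ⟨by norm_num⟩
      obtain ⟨r, hr⟩ := exists_prime_orderOf_dvd_card' (G := Y) 3 (by rw [hY12]; norm_num)
      set R := Subgroup.zpowers r with hR
      have hR3 : Nat.card R = 3 := by rw [hR, Nat.card_zpowers, hr]
      have hcore : R.normalCore = ⊥ := by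
        refine hO _ R.normalCore_normal ?_
        have := Subgroup.card_dvd_of_le R.normalCore_le
        rw [hR3] at this
        rcases (Nat.dvd_prime (by norm_num : Nat.Prime 3)).1 this with e | e <;> rw [e] <;> decide
      have hquot : Nat.card (Y ⧸ R) = 4 := by
        have := R.card_eq_card_quotient_mul_card_subgroup
        rw [hR3, hY12] at this
        omega
      let θ : Y →* Equiv.Perm (Fin 4) :=
        ((Finite.equivFinOfCardEq hquot).permCongrHom.toMonoidHom).comp (MulAction.toPermHom Y (Y ⧸ R))
      have hθ : Function.Injective θ := by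
        refine (MonoidHom.ker_eq_bot_iff θ).1 ?_
        rw [← hcore, Subgroup.normalCore_eq_ker]
        ext g
        simp [θ, MonoidHom.mem_ker]
      refine ⟨(MonoidHom.ofInjective hθ).trans (MulEquiv.subgroupCongr ?_)⟩
      refine Equiv.Perm.eq_alternatingGroup_of_index_eq_two ?_
      have := Subgroup.card_mul_index θ.range
      rw [← Nat.card_congr (MonoidHom.ofInjective hθ).toEquiv, hY12, Nat.card_perm, Nat.card_fin,
        show Nat.factorial 4 = 24 from rfl] at this
      omega
  · right; right
    have : Fact (Nat.Prime 5) := ⟨by norm_num⟩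
    refine exists_prime_orderOf_dvd_card' 5 ?_
    rw [Nat.card_congr e.toEquiv, Nat.card_eq_fintype_card, show Fintype.card (alternatingGroup (Fin 5)) = 60 from rfl]
    norm_num

end FourGroup

/-- The centraliser of an element of order seven: `7 × V`, `7 × A₄`, or an element of order five. -/
theorem seven_cent {C : Type*} [Group C] [Finite C] {b w v : C} (hb : orderOf b = 7)
    (hbc : b ∈ Subgroup.center C) (hw : orderOf w = 2) (hv : orderOf v = 2) (hwv : Commute w v) (hne : w ≠ v)
    (hC : ∀ t ∈ [w, v, v * w], ∀ y : C, Commute y t →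
      ∃ a ∈ ({1, w, v, v * w} : Set C), ∃ i : ℕ, y = a * b ^ i) :
    Nat.card C = 28 ∨ (Nat.card C = 84 ∧ Nonempty (C ≃* Multiplicative (ZMod 7) × alternatingGroup (Fin 4))) ∨
      ∃ f : C, orderOf f = 5 := by
  classical
  set N := Subgroup.zpowers b with hN
  have hNc : N ≤ Subgroup.center C := Subgroup.zpowers_le.2 hbc
  have : N.Normal := ⟨fun m hm g => by
    rw [Subgroup.mem_center_iff.1 (hNc hm) g, mul_inv_cancel_right]; exact hm⟩
  have hN7 : Nat.card N = 7 := by rw [hN, Nat.card_zpowers, hb]
  have h7 : ∀ m ∈ N, m * m = 1 → m = 1 := by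
    intro m hm h2
    have h := pow_card_eq_one' (G := N) (x := ⟨m, hm⟩)
    rw [hN7] at h
    have h' : m ^ 7 = 1 := congrArg Subtype.val h
    rwa [show (7 : ℕ) = 2 * 3 + 1 by rfl, pow_succ, pow_mul, pow_two, h2, one_pow, one_mul] at h'
  let q := QuotientGroup.mk' N
  have hq1 : ∀ {g : C}, q g = 1 ↔ g ∈ N := fun {g} => QuotientGroup.eq_one_iff g
  have hww := invol_mul_self hw
  have hvv := invol_mul_self hv
  have hvw2 : v * w * (v * w) = 1 := by
    rw [show v * w * (v * w) = v * (w * v) * w by group, hwv.eq, ← mul_assoc, hvv, one_mul, hww]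
  have hlift : ∀ t : C, t * t = 1 → ∀ g : C, Commute (q g) (q t) → Commute g t := by
    intro t ht g hgt
    have hm : g * t * g⁻¹ * t ∈ N := hq1.1 (by
      rw [map_mul, map_mul, map_mul, map_inv, hgt.eq, mul_inv_cancel_right, ← map_mul, ht, map_one])
    set m := g * t * g⁻¹ * t with hm'
    have he : g * t * g⁻¹ = m * t := by rw [hm', mul_assoc (g * t * g⁻¹), ht, mul_one]
    have hmt : Commute t m := Subgroup.mem_center_iff.1 (hNc hm) t
    have h2 : m * t * (m * t) = 1 := by
      rw [← he]
      calc g * t * g⁻¹ * (g * t * g⁻¹) = g * (t * t) * g⁻¹ := by group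
        _ = 1 := by rw [ht]; group
    rw [show m * t * (m * t) = m * (t * m) * t by group, hmt.eq, ← mul_assoc, mul_assoc (m * m), ht,
      mul_one] at h2
    rw [h7 m hm h2, one_mul] at he
    exact mul_inv_eq_iff_eq_mul.1 he
  have hne1 : ∀ {t : C}, t * t = 1 → t ≠ 1 → q t ≠ 1 := fun h1 h2 e => h2 (h7 _ (hq1.1 e) h1)
  have hcases := four_cases (w := q w) (v := q v) (by rw [← map_mul, hww, map_one]) (by rw [← map_mul, hvv, map_one])
    (hwv.map q) (hne1 hww (invol_ne_one hw)) (hne1 hvv (invol_ne_one hv))
    (fun e => hne (by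
      have h1 : w * v ∈ N := hq1.1 (by rw [map_mul, e, ← map_mul, hvv, map_one])
      have h2 : w * v * (w * v) = 1 := by
        rw [show w * v * (w * v) = w * (v * w) * v by group, ← hwv.eq, ← mul_assoc, hww, one_mul, hvv]
      have h3 := h7 _ h1 h2
      rw [eq_inv_of_mul_eq_one_left h3, inv_eq_of_mul_eq_one_right hvv]))
    (fun t ht y hy => by
      obtain ⟨g, rfl⟩ := QuotientGroup.mk'_surjective N y
      obtain ⟨t₀, ht₀, rfl, htt⟩ : ∃ t₀ ∈ [w, v, v * w], q t₀ = t ∧ t₀ * t₀ = 1 := by
        simp only [List.mem_cons, List.not_mem_nil, or_false] at ht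
        rcases ht with rfl | rfl | rfl
        · exact ⟨w, by simp, rfl, hww⟩
        · exact ⟨v, by simp, rfl, hvv⟩
        · exact ⟨v * w, by simp, map_mul q v w, hvw2⟩
      obtain ⟨a, ha, i, rfl⟩ := hC t₀ ht₀ g (hlift t₀ htt g hy)
      rw [map_mul, hq1.2 (pow_mem (Subgroup.mem_zpowers b) i), mul_one]
      simp only [Set.mem_insert_iff, Set.mem_singleton_iff] at ha ⊢
      rcases ha with rfl | rfl | rfl | rfl
      · exact Or.inl (map_one q)
      · exact Or.inr (Or.inl rfl)
      · exact Or.inr (Or.inr (Or.inl rfl))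
      · exact Or.inr (Or.inr (Or.inr (map_mul q v w))))
  have hcardC : Nat.card C = Nat.card (C ⧸ N) * 7 := by
    rw [← hN7]; exact N.card_eq_card_quotient_mul_card_subgroup
  rcases hcases with h | ⟨h, ⟨e⟩⟩ | ⟨f, hf⟩
  · left; rw [hcardC, h]
  · right; left
    refine ⟨by rw [hcardC, h], ?_⟩
    obtain ⟨K, hK⟩ := Subgroup.exists_left_complement'_of_coprime (N := N) (by
      rw [hN7, Subgroup.index_eq_card, h]; norm_num)
    have hcom : ∀ (a : N) (c : K), Commute (a : C) (c : C) := fun a c =>
      (Subgroup.mem_center_iff.1 (hNc a.2) c).symm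
    have hΘ : Function.Bijective (MonoidHom.noncommCoprod N.subtype K.subtype hcom) := by
      have hb2 := hK.symm
      exact hb2
    have hKe : Function.Bijective (q.comp K.subtype) := by
      refine (Nat.bijective_iff_injective_and_card _).2 ⟨?_, ?_⟩
      · refine (MonoidHom.ker_eq_bot_iff _).1 ((Subgroup.eq_bot_iff_forall _).2 fun k hk => ?_)
        have hkN : (k : C) ∈ N := hq1.1 hk
        exact Subtype.ext (Subgroup.disjoint_def.1 hK.disjoint k.2 hkN)
      · have := hK.card_mul
        rw [hN7, hcardC, h] at this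
        rw [h]; omega
    have hcyc : IsCyclic N := inferInstance
    have e7 : Multiplicative (ZMod 7) ≃* N :=
      mulEquivOfCyclicCardEq (by rw [hN7, Nat.card_congr Multiplicative.toAdd, Nat.card_zmod])
    exact ⟨(MulEquiv.ofBijective _ hΘ).symm.trans
      (e7.symm.prodCongr ((MulEquiv.ofBijective _ hKe).trans e))⟩
  · right; right
    have : Fact (Nat.Prime 5) := ⟨by norm_num⟩
    refine exists_prime_orderOf_dvd_card' 5 ?_
    rw [hcardC]
    exact Dvd.dvd.mul_right (hf ▸ orderOf_dvd_natCard f) 7

end Cfsg.Agent.Lib.SuzFive11
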